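import Cfsg.Agent.S0000
import Cfsg.Agent.H94.AltAC
import Cfsg.Agent.H94.Sp.AC
import Cfsg.Agent.H94.RankOne
import Cfsg.Agent.H564.PSL
import Cfsg.Agent.H182.CentAll
import Cfsg.Agent.H182.CentU
import Cfsg.Agent.H378.RegFin
import Cfsg.Agent.H378.RegE7
import Cfsg.Agent.H378.TwRows

/-!
# Centralizers of elements of prime order not connected to `2`, all simple groups (helper457)

`ac_known` : `AC T` for every known non-abelian simple group, given the row of `²F₄`; `ac_all`.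
-/

set_option autoImplicit false

namespace Cfsg.Agent.H457.AcAll

open Cfsg Cfsg.Agent.H94.PG

universe u

theorem ac_exceptional (h2F4 : ∀ (K : Type) [Field K] [Fintype K] (m : ℕ), 1 ≤ m → Fintype.card K = 2 ^ (2 * m + 1) →
      AC ↥(Lie.twistedF4 K (2 ^ m))) {T : Type u} [Group T] [Finite T] (h : IsExceptionalLieType T) : AC T := by
  rcases h with h | h | h | h | h | h | h | h | h | h | h
  · obtain ⟨F, iF, iF', -, ⟨e⟩⟩ := h
    exact AC.congr e.symm (H378.RegFin.ac_G2 F)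
  · obtain ⟨F, iF, iF', ⟨e⟩⟩ := h
    exact AC.congr e.symm (H378.RegFin.ac_F4 F)
  · obtain ⟨F, iF, iF', ⟨e⟩⟩ := h
    exact AC.congr e.symm (H378.RegFin.ac_E6 F)
  · obtain ⟨F, iF, iF', ⟨e⟩⟩ := h
    exact AC.congr e.symm (H378.RegE7.ac_E7 F)
  · obtain ⟨F, iF, iF', ⟨e⟩⟩ := h
    exact AC.congr e.symm (H378.RegFin.ac_E8 F)
  · obtain ⟨K, iF, iF', q, hq, hK, ⟨e⟩⟩ := h
    exact AC.congr e.symm (H378.TwRows.ac_2E6 hq hK)
  · obtain ⟨K, iF, iF', q, hq, hK, ⟨e⟩⟩ := h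
    exact AC.congr e.symm (H378.TwRows.ac_3D4 hq hK)
  · exact (H94.RankOne.good2_sz h).ac
  · exact (H94.RankOne.good2_ree h).ac
  · obtain ⟨K, iF, iF', m, hm, hK, ⟨e⟩⟩ := h
    exact AC.congr e.symm (h2F4 K m hm hK)
  · exact H94.PG.Sp.ac_tits h

theorem ac_known (h2F4 : ∀ (K : Type) [Field K] [Fintype K] (m : ℕ), 1 ≤ m → Fintype.card K = 2 ^ (2 * m + 1) →
      AC ↥(Lie.twistedF4 K (2 ^ m))) {T : Type u} [Group T] [Finite T] (hna : ¬ IsMulCommutative T)
    (h : IsKnownSimple' T) : AC T := by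
  rcases h with h | h | h | h | h | h | h | h | h | h
  · have hf : Fact (Nat.card T).Prime := ⟨h⟩
    have hc : IsCyclic T := isCyclic_of_prime_card rfl
    exact absurd IsCyclic.isMulCommutative hna
  · obtain ⟨n, -, ⟨e⟩⟩ := h
    exact AC.congr e.symm (alt_AC (Fin n))
  · exact H564.PSLn.ac_of_isPSL h
  · exact H182.Cent.ac (Or.inl h)
  · exact H182.Cent.ac_psu h
  · exact H182.Cent.ac (Or.inr (Or.inl h))
  · exact H182.Cent.ac (Or.inr (Or.inr (Or.inl h)))
  · exact H182.Cent.ac (Or.inr (Or.inr (Or.inr h)))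
  · exact ac_exceptional h2F4 h
  · exact H94.PG.Sp.ac_sporadic h

end Cfsg.Agent.H457.AcAll
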