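import Cfsg.Agent.H457.OutSplit
import Cfsg.Agent.H679.Table

/-!
# Outer automorphisms of the known simple groups and the prime graph (helper457)

`not_dvd_index_of_known` : `T ⊴ G` known simple with `C_G(T) = 1`, `p` a prime not connected to `2` in `G`: `p ∤ |G : T|`.
-/

set_option autoImplicit false

namespace Cfsg.Agent.H457.OutKnown

open Subgroup Cfsg Cfsg.Agent Cfsg.Agent.H94.PG

variable {G : Type*} [Group G] [Finite G]

theorem not_dvd_index_of_outTwo (T : Subgroup G) (hT : T.Normal) (hC : centralizer (T : Set G) = ⊥) {p : ℕ}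
    [hp : Fact p.Prime] (hp2 : p ≠ 2) (h : H679.OutTwo T) : ¬ p ∣ T.index := by
  intro hd
  rw [Subgroup.index_eq_card] at hd
  obtain ⟨q, hq⟩ := exists_prime_orderOf_dvd_card' p hd
  obtain ⟨g, rfl⟩ := QuotientGroup.mk'_surjective T q
  obtain ⟨n, t, ht⟩ := h (MulAut.conjNormal g)
  have h1 : (t : G)⁻¹ * g ^ 2 ^ n ∈ centralizer (T : Set G) := by
    rw [mem_centralizer_iff]
    intro u hu
    have h2 : (MulAut.conj t) ⟨u, hu⟩ = (MulAut.conjNormal (g ^ 2 ^ n) : MulAut T) ⟨u, hu⟩ := by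
      rw [map_pow, ← ht]
    have h3 : (t : G) * u * (t : G)⁻¹ = g ^ 2 ^ n * u * (g ^ 2 ^ n)⁻¹ := by
      have h4 := congrArg Subtype.val h2
      rw [MulAut.conjNormal_apply] at h4
      exact h4
    calc u * ((t : G)⁻¹ * g ^ 2 ^ n) = (t : G)⁻¹ * (t * u * (t : G)⁻¹) * g ^ 2 ^ n := by group
      _ = (t : G)⁻¹ * (g ^ 2 ^ n * u * (g ^ 2 ^ n)⁻¹) * g ^ 2 ^ n := by rw [h3]
      _ = (t : G)⁻¹ * g ^ 2 ^ n * u := by group
  rw [hC, mem_bot, inv_mul_eq_one] at h1
  have h2 : (QuotientGroup.mk' T g) ^ 2 ^ n = 1 := by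
    rw [← map_pow, ← h1]
    exact (QuotientGroup.eq_one_iff _).2 t.2
  have h3 := orderOf_dvd_of_pow_eq_one h2
  rw [hq] at h3
  exact hp2 ((Nat.prime_dvd_prime_iff_eq hp.out Nat.prime_two).1 (hp.out.dvd_of_dvd_pow h3))

/-- **Known simple groups.** -/
theorem not_dvd_index_of_known (T : Subgroup G) (hT : T.Normal) [IsSimpleGroup T] (hna : ¬ IsMulCommutative T)
    (hK : IsKnownSimple' T) (hC : centralizer (T : Set G) = ⊥) {p : ℕ} (hp : p.Prime) (hn : ¬ Conn G p 2) :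
    ¬ p ∣ T.index := by
  have : Fact p.Prime := ⟨hp⟩
  rcases H679.split_or_outTwo hna hK with ⟨ℓ, hl, h⟩ | h
  · have : Fact ℓ.Prime := ⟨hl⟩
    exact OutSplit.not_dvd_index_of_split T hT hn h
  · refine not_dvd_index_of_outTwo T hT hC ?_ h
    rintro rfl
    exact hn Relation.ReflTransGen.refl

end Cfsg.Agent.H457.OutKnown
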