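import Cfsg.Agent.H457.CliqueBase
import Cfsg.Agent.H457.OutKnown
import Cfsg.Agent.H388.AlmostSimple
import Cfsg.Agent.S0000
import Cfsg.Agent.S0205

/-!
# Components of the prime graph are cliques (helper457)

`clique_of_ac` : if `AC T` for all nonabelian finite simple groups `T` then `Clique G` for all finite groups `G`.
-/

set_option autoImplicit false

namespace Cfsg.Agent.H457.CliqueBase

open Subgroup Cfsg Cfsg.Agent Cfsg.Agent.H94.PG

universe u

/-- nonsolvable groups with trivial solvable radical -/
theorem clique_of_trivial_radical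
    (hAC : ∀ (T : Type u) [Group T] [Finite T] [IsSimpleGroup T], ¬ IsMulCommutative T → AC T)
    (X : Type u) [Group X] [Finite X] (hns : ¬ Group.IsSolvable X) (r : ℕ) (hr : r.Prime) (hr2 : r ≠ 2)
    (hd : r ∣ Nat.card X) (hno : ∀ g : X, orderOf g ≠ 2 * r)
    (hrad : ∀ N : Subgroup X, N.Normal → Group.IsSolvable N → N = ⊥) : Clique X := by
  obtain ⟨S, hSn, hSs, hSna, hSc⟩ := H388.AlmostSimple.main hns hr hr2 hd hno (⊥ : Subgroup X) inferInstance
    (fun N hN hNs => (hrad N hN hNs).le)
  refine Clique.congr QuotientGroup.quotientBot.symm ?_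
  intro r' hr' hd' hn' _ p q hp hq hpq
  exact adj_of_almostSimple S hSn (hAC S hSna)
    (fun p hp hn => OutKnown.not_dvd_index_of_known S hSn hSna S0000.result hSc hp hn) hr' hd' hn' hp hq hpq

/-- **The components of the prime graph not containing `2` are cliques if the graph is not connected**, given the
property `AC` of the simple groups. -/
theorem clique_of_ac (hAC : ∀ (T : Type u) [Group T] [Finite T] [IsSimpleGroup T], ¬ IsMulCommutative T → AC T)
    (G : Type u) [Group G] [Finite G] : Clique G :=
  clique_main (fun _ _ _ h => S0205.result h)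
    (fun X _ _ hns r hr hr2 hd hno hrad => clique_of_trivial_radical hAC X hns r hr hr2 hd hno hrad)
    (Nat.card G) G rfl

end Cfsg.Agent.H457.CliqueBase
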