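import Cfsg.Agent.H94.PrimeGraph
import Cfsg.Agent.Lib.LocalCore

/-!
# Primes of an odd component and the index of a normal subgroup (helper457)

`G` finite, `p` a prime not connected with `2` in the prime graph, `T` normal in `G`.
`not_dvd_index_of_normalizing` : if an involution of `T` normalizes a nontrivial `p`-subgroup of `T` then `p ∤ |G : T|`.
-/

set_option autoImplicit false

namespace Cfsg.Agent.H457.OutPrime

open Subgroup Cfsg Cfsg.Agent Cfsg.Agent.H94.PG

variable {G : Type*} [Group G] [Finite G]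

/-- an involution acting without fixed points inverts -/
theorem inverts (C : Subgroup G) (i : G) (hi : i * i = 1) (hiC : ∀ c ∈ C, i * c * i⁻¹ ∈ C)
    (hfpf : ∀ c ∈ C, i * c * i⁻¹ = c → c = 1) : ∀ c ∈ C, i * c * i⁻¹ = c⁻¹ := by
  let φ : C →* C :=
    { toFun := fun y => ⟨i * y * i⁻¹, hiC _ y.2⟩
      map_one' := by
        apply Subtype.ext
        change i * 1 * i⁻¹ = 1
        group
      map_mul' := by
        intro a b
        apply Subtype.ext
        change i * (a * b) * i⁻¹ = (i * a * i⁻¹) * (i * b * i⁻¹)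
        group }
  have hinv : Function.Involutive φ := by
    intro y
    apply Subtype.ext
    change i * (i * y * i⁻¹) * i⁻¹ = y
    calc i * (i * y * i⁻¹) * i⁻¹ = (i * i) * y * (i * i)⁻¹ := by group
      _ = y := by rw [hi]; group
  have hfpf' : MonoidHom.FixedPointFree φ := by
    intro y hy
    exact Subtype.ext (hfpf y y.2 (congrArg Subtype.val hy))
  have hres := hfpf'.coe_eq_inv_of_involutive hinv
  intro c hc
  exact congrArg Subtype.val (congrFun hres ⟨c, hc⟩)

/-- nothing but `1` commutes with an element of the component and an involution -/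
theorem eq_one_of_commute {x i : G} {p : ℕ} (hp : p.Prime) (hn : ¬ Conn G p 2) (hx : p ∣ orderOf x)
    (hi : orderOf i = 2) {c : G} (hcx : Commute c x) (hci : Commute c i) : c = 1 := by
  by_contra hc
  obtain ⟨q, hq, hqd⟩ := exists_prime_dvd hc
  apply hn
  exact (conn_of_dvd hp hq hcx.symm hx hqd).trans (conn_of_dvd hq Nat.prime_two hci hqd (by rw [hi]))

/-- an involution inverting an element of the component inverts its centralizer -/
theorem inverts_centralizer {x i : G} {p : ℕ} (hp : p.Prime) (hn : ¬ Conn G p 2) (hx : p ∣ orderOf x)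
    (hi : orderOf i = 2) (hix : i * x * i⁻¹ = x⁻¹) : ∀ c : G, Commute c x → i * c * i⁻¹ = c⁻¹ := by
  have hii : i * i = 1 := by rw [← pow_two, ← hi, pow_orderOf_eq_one]
  intro c hc
  refine inverts (centralizer ({x} : Set G)) i hii ?_ ?_ c (mem_centralizer_singleton_iff.2 hc)
  · intro y hy
    rw [mem_centralizer_singleton_iff] at hy ⊢
    have h1 : Commute (i * y * i⁻¹) x⁻¹ := by
      rw [← hix]
      have hy' : Commute y x := hy
      have := hy'.map (MulAut.conj i).toMonoidHom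
      simpa using this
    exact (by simpa using h1.inv_right : Commute (i * y * i⁻¹) x)
  · intro y hy hyi
    rw [mem_centralizer_singleton_iff] at hy
    refine eq_one_of_commute hp hn hx hi hy ?_
    rw [commute_iff_eq]
    calc y * i = (i * y * i⁻¹) * i := by rw [hyi]
      _ = i * y := by group

theorem commute_of_inverts {i a b : G} (ha : i * a * i⁻¹ = a⁻¹) (hb : i * b * i⁻¹ = b⁻¹)
    (hab : i * (a * b) * i⁻¹ = (a * b)⁻¹) : Commute a b := by
  have h4 : i * (a * b) * i⁻¹ = (i * a * i⁻¹) * (i * b * i⁻¹) := by group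
  rw [h4, ha, hb, mul_inv_rev] at hab
  have h5 := congrArg (fun z => z⁻¹) hab
  simp only [mul_inv_rev, inv_inv] at h5
  exact h5.symm

/-- an involution normalizing a `p`-subgroup inverts it -/
theorem inverts_pgroup {p : ℕ} (hp : p.Prime) (hn : ¬ Conn G p 2) {P : Subgroup G} (hP : IsPGroup p P) {i : G}
    (hi : orderOf i = 2) (hiP : i ∈ normalizer (P : Set G)) : ∀ u ∈ P, i * u * i⁻¹ = u⁻¹ := by
  have hii : i * i = 1 := by rw [← pow_two, ← hi, pow_orderOf_eq_one]
  refine inverts P i hii (fun c hc => (mem_normalizer_iff.1 hiP c).1 hc) ?_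
  intro c hc hci
  by_contra hc1
  have hfp : Fact p.Prime := ⟨hp⟩
  obtain ⟨k, hk⟩ := hP.exists_orderOf_eq_pow ⟨c, hc⟩
  rw [Subgroup.orderOf_mk] at hk
  have hk0 : k ≠ 0 := by
    rintro rfl
    rw [pow_zero, orderOf_eq_one_iff] at hk
    exact hc1 hk
  refine hc1 (eq_one_of_commute hp hn (x := c) (by rw [hk]; exact dvd_pow_self p hk0) hi (Commute.refl c) ?_)
  rw [commute_iff_eq]
  calc c * i = (i * c * i⁻¹) * i := by rw [hci]
    _ = i * c := by group

/-- an involution of `T` normalizing a nontrivial `p`-subgroup of `T` inverts a Sylow `p`-subgroup of `T` -/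
theorem exists_sylow_inverted (T : Subgroup G) {p : ℕ} [hp : Fact p.Prime] (hn : ¬ Conn G p 2) (P₁ : Subgroup G)
    (hP₁T : P₁ ≤ T) (hP₁ : IsPGroup p P₁) (hne : P₁ ≠ ⊥) {i : G} (hi : orderOf i = 2)
    (hiP₁ : i ∈ normalizer (P₁ : Set G)) :
    ∃ R : Sylow p T, (R : Subgroup T) ≠ ⊥ ∧ ∀ u ∈ (R : Subgroup T).map T.subtype, i * u * i⁻¹ = u⁻¹ := by
  classical
  have hinv := inverts_pgroup hp.out hn hP₁ hi hiP₁
  -- an element of order `p` of `P₁`
  have hdvd : p ∣ Nat.card P₁ := by
    obtain ⟨n, hn'⟩ := IsPGroup.iff_card.mp hP₁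
    have hn0 : n ≠ 0 := by
      rintro rfl
      rw [pow_zero] at hn'
      exact hne (Subgroup.card_eq_one.1 hn')
    rw [hn']; exact dvd_pow_self p hn0
  obtain ⟨x, hx⟩ := exists_prime_orderOf_dvd_card' p hdvd
  have hxo : orderOf (x : G) = p := by rw [Subgroup.orderOf_coe, hx]
  have hix := hinv x x.2
  have hcx := inverts_centralizer hp.out hn (by rw [hxo]) hi hix
  -- a Sylow `p`-subgroup `R` of `T` above `P₁`
  have hP₁' : IsPGroup p (P₁.subgroupOf T) := hP₁.of_equiv (subgroupOfEquivOfLe hP₁T).symm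
  obtain ⟨R, hR⟩ := hP₁'.exists_le_sylow
  have hxR : (⟨x, hP₁T x.2⟩ : T) ∈ (R : Subgroup T) := hR x.2
  have hRne : (R : Subgroup T) ≠ ⊥ := by
    intro h
    rw [h, mem_bot] at hxR
    have h1 : (x : G) = 1 := congrArg Subtype.val hxR
    rw [h1, orderOf_one] at hxo
    exact hp.out.one_lt.ne hxo
  -- a central element of order `p` of `R`
  have hRnt : Nontrivial (R : Subgroup T) := (Subgroup.nontrivial_iff_ne_bot _).2 hRne
  have hZ : Nontrivial (center (R : Subgroup T)) := R.isPGroup'.center_nontrivial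
  have hZp : IsPGroup p (center (R : Subgroup T)) := R.isPGroup'.to_subgroup _
  have hZd : p ∣ Nat.card (center (R : Subgroup T)) := by
    obtain ⟨n, hn'⟩ := IsPGroup.iff_card.mp hZp
    have hn0 : n ≠ 0 := by
      rintro rfl
      rw [pow_zero] at hn'
      have := (Finite.one_lt_card_iff_nontrivial (α := center (R : Subgroup T))).2 hZ
      omega
    rw [hn']; exact dvd_pow_self p hn0
  obtain ⟨z, hz⟩ := exists_prime_orderOf_dvd_card' p hZd
  set z' : G := (((z : (R : Subgroup T)) : T) : G) with hz'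
  have hzo : orderOf z' = p := by
    rw [hz', Subgroup.orderOf_coe, Subgroup.orderOf_coe, Subgroup.orderOf_coe, hz]
  have hzc : ∀ u ∈ (R : Subgroup T), Commute (u : G) z' := by
    intro u hu
    have h1 := mem_center_iff.1 z.2 ⟨u, hu⟩
    have h2 : ((⟨u, hu⟩ : (R : Subgroup T)) : T) * (z : (R : Subgroup T)) = (z : (R : Subgroup T)) * u :=
      congrArg Subtype.val h1
    exact congrArg Subtype.val h2
  have hiz : i * z' * i⁻¹ = z'⁻¹ := hcx z' (hzc _ hxR).symm
  have hcz := inverts_centralizer hp.out hn (by rw [hzo]) hi hiz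
  refine ⟨R, hRne, ?_⟩
  rintro _ ⟨u, hu, rfl⟩
  exact hcz _ (hzc u hu)

/-- If a Sylow `p`-subgroup of the normal subgroup `T` is inverted by an involution of `T` then `p ∤ |G : T|`. -/
theorem not_dvd_index_of_sylow (T : Subgroup G) (hT : T.Normal) {p : ℕ} [hp : Fact p.Prime] (hn : ¬ Conn G p 2)
    (R : Sylow p T) (hR : (R : Subgroup T) ≠ ⊥) {i : G} (hiT : i ∈ T) (hi : orderOf i = 2)
    (hinv : ∀ u ∈ (R : Subgroup T).map T.subtype, i * u * i⁻¹ = u⁻¹) : ¬ p ∣ T.index := by
  classical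
  intro hpT
  have hii : i * i = 1 := by rw [← pow_two, ← hi, pow_orderOf_eq_one]
  have hin : i⁻¹ = i := inv_eq_of_mul_eq_one_right hii
  set P : Subgroup G := (R : Subgroup T).map T.subtype with hP
  set M : Subgroup G := normalizer (P : Set G) with hM
  set C : Subgroup G := centralizer (P : Set G) with hC
  have hPp : IsPGroup p P := R.isPGroup'.map _
  -- an element of order `p` of `P`
  have hdvd : p ∣ Nat.card P := by
    rw [hP, card_map_of_injective T.subtype_injective]
    obtain ⟨n, hn'⟩ := IsPGroup.iff_card.mp R.isPGroup'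
    have hn0 : n ≠ 0 := by
      rintro rfl
      rw [pow_zero] at hn'
      exact hR (Subgroup.card_eq_one.1 hn')
    rw [hn']; exact dvd_pow_self p hn0
  obtain ⟨x, hx⟩ := exists_prime_orderOf_dvd_card' p hdvd
  have hxo : orderOf (x : G) = p := by rw [Subgroup.orderOf_coe, hx]
  have hcx := inverts_centralizer hp.out hn (by rw [hxo]) hi (hinv x x.2)
  have hCinv : ∀ c ∈ C, i * c * i⁻¹ = c⁻¹ := by
    intro c hc
    exact hcx c (mem_centralizer_iff.1 hc x x.2).symm
  have hCodd : ∀ c ∈ C, ¬ 2 ∣ orderOf c := by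
    intro c hc h2
    apply hn
    have hcx' : Commute c (x : G) := (mem_centralizer_iff.1 hc x x.2).symm
    exact (conn_of_dvd Nat.prime_two hp.out hcx' h2 (by rw [hxo])).symm
  -- `C ≤ T`
  have hCT : C ≤ T := by
    intro c hc
    have h1 : i * c * i⁻¹ * c⁻¹ ∈ T := by
      have e : i * c * i⁻¹ * c⁻¹ = i * (c * i⁻¹ * c⁻¹) := by group
      rw [e]
      exact mul_mem hiT (hT.conj_mem _ (inv_mem hiT) c)
    rw [hCinv c hc] at h1
    have h2 : c ^ 2 ∈ T := by
      have := inv_mem h1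
      have e : (c⁻¹ * c⁻¹)⁻¹ = c ^ 2 := by rw [mul_inv_rev, inv_inv, pow_two]
      rwa [e] at this
    have hcop : Nat.Coprime 2 (orderOf c) := (Nat.Prime.coprime_iff_not_dvd Nat.prime_two).2 (hCodd c hc)
    obtain ⟨m, hm⟩ := exists_pow_eq_self_of_coprime hcop
    rw [← hm]
    exact pow_mem h2 m
  -- `M = C C_M(i)`
  have hcomm : ∀ u ∈ P, ∀ g ∈ M, g⁻¹ * u * g ∈ P := by
    intro u hu g hg
    have := (mem_normalizer_iff.1 (inv_mem hg) u).1 hu
    simpa using this
  have hfac : ∀ g ∈ M, ∃ d ∈ C, Commute (d⁻¹ * g) i := by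
    intro g hg
    -- `c = g i g⁻¹ i⁻¹ ∈ C`
    have hcC : g * i * g⁻¹ * i⁻¹ ∈ C := by
      rw [hC, mem_centralizer_iff]
      intro u hu
      have h1 : i⁻¹ * u * i = u⁻¹ := by
        have h0 := hinv u hu
        calc i⁻¹ * u * i = i * u * i⁻¹ := by rw [hin]
          _ = u⁻¹ := h0
      have h2 : g⁻¹ * u⁻¹ * g ∈ P := hcomm _ (inv_mem hu) g hg
      have h3 : i * (g⁻¹ * u⁻¹ * g) * i⁻¹ = (g⁻¹ * u⁻¹ * g)⁻¹ := hinv _ h2
      -- conjugate `u` by `c`
      have h4 : (g * i * g⁻¹ * i⁻¹) * u * (g * i * g⁻¹ * i⁻¹)⁻¹ = u := by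
        calc (g * i * g⁻¹ * i⁻¹) * u * (g * i * g⁻¹ * i⁻¹)⁻¹
            = g * (i * (g⁻¹ * (i⁻¹ * u * i) * g) * i⁻¹) * g⁻¹ := by group
          _ = g * (i * (g⁻¹ * u⁻¹ * g) * i⁻¹) * g⁻¹ := by rw [h1]
          _ = g * (g⁻¹ * u⁻¹ * g)⁻¹ * g⁻¹ := by rw [h3]
          _ = u := by group
      calc u * (g * i * g⁻¹ * i⁻¹) = ((g * i * g⁻¹ * i⁻¹) * u * (g * i * g⁻¹ * i⁻¹)⁻¹) * (g * i * g⁻¹ * i⁻¹) := by
            rw [h4]
        _ = (g * i * g⁻¹ * i⁻¹) * u := by group
    set c := g * i * g⁻¹ * i⁻¹ with hc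
    have hcop : Nat.Coprime 2 (orderOf c) := (Nat.Prime.coprime_iff_not_dvd Nat.prime_two).2 (hCodd c hcC)
    obtain ⟨m, hm⟩ := exists_pow_eq_self_of_coprime hcop
    refine ⟨c ^ m, pow_mem hcC m, ?_⟩
    set d := c ^ m with hd
    have hdC : d ∈ C := pow_mem hcC m
    have hd2 : d * d = c := by
      rw [hd, ← pow_add, ← two_mul, pow_mul]
      exact hm
    have h5 : i * d = d⁻¹ * i := by
      have := hCinv d hdC
      calc i * d = (i * d * i⁻¹) * i := by group
        _ = d⁻¹ * i := by rw [this]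
    -- `d i d⁻¹ = d² i = c i = g i g⁻¹`
    have h6 : d * i * d⁻¹ = g * i * g⁻¹ := by
      have h7 : i * d⁻¹ = d * i := by
        have h8 : i * d⁻¹ * i⁻¹ = d := by
          have := congrArg (fun y => y⁻¹) (hCinv d hdC)
          simp only [mul_inv_rev, inv_inv] at this
          rw [← mul_assoc] at this
          exact this
        calc i * d⁻¹ = (i * d⁻¹ * i⁻¹) * i := by group
          _ = d * i := by rw [h8]
      calc d * i * d⁻¹ = d * (i * d⁻¹) := by group
        _ = (d * d) * i := by rw [h7]; group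
        _ = g * i * g⁻¹ := by rw [hd2, hc]; group
    rw [commute_iff_eq]
    calc d⁻¹ * g * i = d⁻¹ * (g * i * g⁻¹) * g := by group
      _ = d⁻¹ * (d * i * d⁻¹) * g := by rw [h6]
      _ = i * (d⁻¹ * g) := by group
  have hCM : C ≤ M := by
    intro c hc
    rw [hM, mem_normalizer_iff]
    intro u
    constructor
    · intro hu
      rw [← mem_centralizer_iff.1 hc u hu, mul_inv_cancel_right]
      exact hu
    · intro hu
      have h1 := mem_centralizer_iff.1 hc _ hu
      have h2 : c * u * c⁻¹ = u := by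
        have h3 : c * u = c * (c * u * c⁻¹) := by
          rw [← h1]; group
        exact (mul_left_cancel h3).symm
      rwa [h2] at hu
  -- `G = T M`
  have hTM : T ⊔ M = ⊤ := by
    have := Sylow.normalizer_sup_eq_top R
    rw [sup_comm] at this
    exact this
  have hidx : T.relIndex M = T.index := by
    rw [← Subgroup.relIndex_sup_right, sup_comm, hTM, Subgroup.relIndex_top_right]
  have hCn : (C.subgroupOf M).Normal := by
    refine ⟨?_⟩
    intro c hc g
    rw [mem_subgroupOf] at hc ⊢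
    rw [hC, mem_centralizer_iff]
    intro u hu
    have h1 := mem_centralizer_iff.1 hc _ (hcomm u hu g g.2)
    change u * ((g : G) * c * (g : G)⁻¹) = (g : G) * c * (g : G)⁻¹ * u
    calc u * ((g : G) * c * (g : G)⁻¹) = g * (((g : G)⁻¹ * u * g) * c) * (g : G)⁻¹ := by group
      _ = g * (c * ((g : G)⁻¹ * u * g)) * (g : G)⁻¹ := by rw [h1]
      _ = (g : G) * c * (g : G)⁻¹ * u := by group
  have h1 : p ∣ C.relIndex M := by
    rw [← hidx] at hpT
    exact hpT.trans (Subgroup.relIndex_dvd_of_le_left M hCT)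
  -- `C_M(i)` maps onto `M / C`
  let D : Subgroup M := (centralizer ({i} : Set G)).subgroupOf M
  let f : D →* M ⧸ C.subgroupOf M := (QuotientGroup.mk' (C.subgroupOf M)).comp D.subtype
  have hf : Function.Surjective f := by
    intro q
    obtain ⟨g, rfl⟩ := QuotientGroup.mk'_surjective (C.subgroupOf M) q
    obtain ⟨d, hd, hdi⟩ := hfac g g.2
    refine ⟨⟨⟨d⁻¹ * g, mul_mem (inv_mem (hCM hd)) g.2⟩, ?_⟩, ?_⟩
    · rw [mem_subgroupOf, mem_centralizer_singleton_iff]
      exact hdi
    · change QuotientGroup.mk' (C.subgroupOf M) _ = _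
      rw [QuotientGroup.mk'_eq_mk']
      refine ⟨⟨g⁻¹ * d * g, ?_⟩, ?_, ?_⟩
      · exact mul_mem (mul_mem (inv_mem g.2) (hCM hd)) g.2
      · have h9 := hCn.conj_mem ⟨d, hCM hd⟩ hd g⁻¹
        rw [inv_inv] at h9
        exact h9
      · apply Subtype.ext
        change d⁻¹ * (g : G) * ((g : G)⁻¹ * d * g) = g
        group
  have h2 : p ∣ Nat.card D := by
    have h3 := Subgroup.card_dvd_of_surjective f hf
    rw [← Subgroup.index_eq_card] at h3
    exact h1.trans h3
  obtain ⟨y, hy⟩ := exists_prime_orderOf_dvd_card' p h2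
  apply hn
  have hyi : Commute (((y : M)) : G) i := mem_centralizer_singleton_iff.1 (mem_subgroupOf.1 y.2)
  exact conn_of_dvd hp.out Nat.prime_two hyi (by rw [Subgroup.orderOf_coe, Subgroup.orderOf_coe, hy]) (by rw [hi])

/-- **If an involution of the normal subgroup `T` normalizes a nontrivial `p`-subgroup of `T` then `p ∤ |G : T|`.** -/
theorem not_dvd_index_of_normalizing (T : Subgroup G) (hT : T.Normal) {p : ℕ} [hp : Fact p.Prime] (hn : ¬ Conn G p 2)
    (P₁ : Subgroup G) (hP₁T : P₁ ≤ T) (hP₁ : IsPGroup p P₁) (hne : P₁ ≠ ⊥) {i : G} (hiT : i ∈ T) (hi : orderOf i = 2)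
    (hiP₁ : i ∈ normalizer (P₁ : Set G)) : ¬ p ∣ T.index := by
  obtain ⟨R, hR, hinv⟩ := exists_sylow_inverted T hn P₁ hP₁T hP₁ hne hi hiP₁
  exact not_dvd_index_of_sylow T hT hn R hR hiT hi hinv

end Cfsg.Agent.H457.OutPrime
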