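import Cfsg.Agent.H457.ThreePrimes
import Cfsg.Agent.H457.OutPrime
import Cfsg.Agent.Lib.SolvableMinNormal

/-!
# Components of the prime graph are cliques: reductions (helper457)

* `Clique G` : every component not containing `2` and different from the whole vertex set is a clique;
* `clique_of_solvable`, `clique_of_quotient` (a normal `s`-subgroup, `s` outside the component),
  `adj_of_normal` (a normal `s`-subgroup, `s` in the component), `adj_of_almostSimple`;
* `clique_main` : the reduction to the simple groups.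
-/

set_option autoImplicit false

namespace Cfsg.Agent.H457.CliqueBase

open Subgroup Cfsg Cfsg.Agent Cfsg.Agent.H94.PG Cfsg.Agent.H457.OutPrime Cfsg.Agent.H457.ThreePrimes

universe u

/-- components not containing `2`, not everything, are cliques -/
def Clique (G : Type*) [Group G] : Prop :=
  ∀ r : ℕ, r.Prime → r ∣ Nat.card G → ¬ Conn G r 2 → (∃ s : ℕ, s.Prime ∧ s ∣ Nat.card G ∧ ¬ Conn G r s) →
    ∀ p q : ℕ, Conn G r p → Conn G r q → p ≠ q → Adj G p q

section

variable {G : Type*} [Group G]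

theorem prime_of_conn {r p : ℕ} (hr : r.Prime) (hd : r ∣ Nat.card G) (h : Conn G r p) :
    p.Prime ∧ p ∣ Nat.card G := by
  unfold Conn at h
  cases h with
  | refl => exact ⟨hr, hd⟩
  | tail _ hbc =>
    obtain ⟨-, hc, -, -, y, -, hy, -⟩ := hbc
    exact ⟨hc, hy ▸ orderOf_dvd_natCard y⟩

theorem Clique.congr {H : Type*} [Group H] (e : G ≃* H) (h : Clique H) : Clique G := by
  intro r hr hd hn hs p q hp hq hpq
  obtain ⟨s, hs, hsd, hns⟩ := hs
  have h1 := h r hr (by rwa [← Nat.card_congr e.toEquiv]) (by rwa [← conn_congr e])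
    ⟨s, hs, by rwa [← Nat.card_congr e.toEquiv], by rwa [← conn_congr e]⟩ p q ((conn_congr e).1 hp)
    ((conn_congr e).1 hq) hpq
  exact h1.map e.symm.toMonoidHom e.symm.injective

variable [Finite G]

theorem clique_of_solvable [Group.IsSolvable G] : Clique G := by
  intro r hr hd _ hs p q hp hq hpq
  obtain ⟨s, hs, hsd, hns⟩ := hs
  obtain ⟨hp', hpd⟩ := prime_of_conn hr hd hp
  obtain ⟨hq', hqd⟩ := prime_of_conn hr hd hq
  have hps : p ≠ s := fun h => hns (h ▸ hp)
  have hqs : q ≠ s := fun h => hns (h ▸ hq)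
  rcases three_primes hp' hq' hs hpq hqs hps hpd hqd hsd with h | h | h
  · exact h
  · exact absurd (hq.trans h.conn) hns
  · exact absurd (hp.trans h.conn) hns

/-- the image of an element of prime order outside a normal `s`-subgroup -/
theorem orderOf_mk {M : Subgroup G} [M.Normal] {s b : ℕ} [Fact s.Prime] (hM : IsPGroup s M) (hb : b.Prime)
    (hbs : b ≠ s) {x : G} (hx : orderOf x = b) : orderOf (QuotientGroup.mk' M x) = b := by
  have h1 : orderOf (QuotientGroup.mk' M x) ∣ b := hx ▸ orderOf_map_dvd _ x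
  rcases (Nat.dvd_prime hb).1 h1 with h | h
  · exfalso
    rw [orderOf_eq_one_iff] at h
    have hxM : x ∈ M := (QuotientGroup.eq_one_iff x).1 h
    obtain ⟨k, hk⟩ := hM.exists_orderOf_eq_pow ⟨x, hxM⟩
    rw [Subgroup.orderOf_mk, hx] at hk
    have h2 : b ∣ s ^ k := by rw [← hk]
    exact hbs ((Nat.prime_dvd_prime_iff_eq hb (Fact.out : s.Prime)).1 (hb.dvd_of_dvd_pow h2))
  · exact h

theorem conn_quotient {M : Subgroup G} [M.Normal] {s r p : ℕ} [Fact s.Prime] (hM : IsPGroup s M)
    (hns : ¬ Conn G r s) (h : Conn G r p) : Conn (G ⧸ M) r p := by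
  unfold Conn at h
  induction h with
  | refl => exact Relation.ReflTransGen.refl
  | @tail b c hb hbc ih =>
    have hbs : b ≠ s := by rintro rfl; exact hns hb
    have hcs : c ≠ s := by rintro rfl; exact hns (Relation.ReflTransGen.tail hb hbc)
    obtain ⟨hb', hc', hne, x, y, hx, hy, hxy⟩ := hbc
    exact Relation.ReflTransGen.tail ih ⟨hb', hc', hne, _, _, orderOf_mk hM hb' hbs hx, orderOf_mk hM hc' hcs hy,
      hxy.map (QuotientGroup.mk' M)⟩

/-- **a normal `s`-subgroup, `s` outside of the component** -/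
theorem adj_of_quotient {M : Subgroup G} [M.Normal] {s : ℕ} [Fact s.Prime] (hM : IsPGroup s M)
    (h2 : 2 ∣ Nat.card (G ⧸ M)) (hC : Clique (G ⧸ M)) {r : ℕ} (hr : r.Prime) (hd : r ∣ Nat.card G)
    (hn : ¬ Conn G r 2) (hns : ¬ Conn G r s) {p q : ℕ} (hp : Conn G r p) (hq : Conn G r q) (hpq : p ≠ q) :
    Adj G p q := by
  have hfr : Fact r.Prime := ⟨hr⟩
  have hrs : r ≠ s := by rintro rfl; exact hns Relation.ReflTransGen.refl
  have hsurj := QuotientGroup.mk'_surjective M
  have hd' : r ∣ Nat.card (G ⧸ M) := by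
    obtain ⟨x, hx⟩ := exists_prime_orderOf_dvd_card' r hd
    rw [← orderOf_mk hM hr hrs hx]
    exact orderOf_dvd_natCard _
  exact adj_of_surjective _ hsurj (hC r hr hd' (fun h => hn (conn_of_surjective _ hsurj h))
    ⟨2, Nat.prime_two, h2, fun h => hn (conn_of_surjective _ hsurj h)⟩ p q (conn_quotient hM hns hp)
    (conn_quotient hM hns hq) hpq)

/-- **a normal `s`-subgroup, `s` in the component** -/
theorem adj_of_normal {M : Subgroup G} [hMn : M.Normal] {s : ℕ} [hs : Fact s.Prime] (hM : IsPGroup s M) (hne : M ≠ ⊥)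
    (h2 : 2 ∣ Nat.card G) {r : ℕ} (hr : r.Prime) (hd : r ∣ Nat.card G)
    (hn : ¬ Conn G r 2) (hrs : Conn G r s) {p q : ℕ} (hp : Conn G r p) (hq : Conn G r q) (hpq : p ≠ q) :
    Adj G p q := by
  classical
  have hns : ¬ Conn G s 2 := fun h => hn (hrs.trans h)
  have hf2 : Fact (Nat.Prime 2) := ⟨Nat.prime_two⟩
  obtain ⟨i, hi⟩ := exists_prime_orderOf_dvd_card' 2 h2
  have hii : i * i = 1 := by rw [← pow_two, ← hi, pow_orderOf_eq_one]
  have hin : i⁻¹ = i := inv_eq_of_mul_eq_one_right hii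
  have hinv := inverts_pgroup hs.out hns hM hi (by rw [normalizer_eq_top]; trivial)
  have hdvd : s ∣ Nat.card M := by
    obtain ⟨n, hn'⟩ := IsPGroup.iff_card.mp hM
    have hn0 : n ≠ 0 := by
      rintro rfl
      rw [pow_zero] at hn'
      exact hne (Subgroup.card_eq_one.1 hn')
    rw [hn']; exact dvd_pow_self s hn0
  obtain ⟨x, hx⟩ := exists_prime_orderOf_dvd_card' s hdvd
  have hxo : orderOf (x : G) = s := by rw [Subgroup.orderOf_coe, hx]
  have hcx := inverts_centralizer hs.out hns (by rw [hxo]) hi (hinv x x.2)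
  set C : Subgroup G := centralizer (M : Set G) with hC
  have hCx : ∀ c ∈ C, Commute c (x : G) := fun c hc => (mem_centralizer_iff.1 hc x x.2).symm
  have hCinv : ∀ c ∈ C, i * c * i⁻¹ = c⁻¹ := fun c hc => hcx c (hCx c hc)
  have hCodd : ∀ c ∈ C, ¬ 2 ∣ orderOf c := by
    intro c hc h2
    apply hns
    exact (conn_of_dvd Nat.prime_two hs.out (hCx c hc) h2 (by rw [hxo])).symm
  have hcomm : ∀ u ∈ M, ∀ g : G, g⁻¹ * u * g ∈ M := by
    intro u hu g
    have := hMn.conj_mem u hu g⁻¹
    simpa using this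
  have hfac : ∀ g : G, ∃ d ∈ C, Commute (d⁻¹ * g) i := by
    intro g
    have hcC : g * i * g⁻¹ * i⁻¹ ∈ C := by
      rw [hC, mem_centralizer_iff]
      intro u hu
      have h1 : i⁻¹ * u * i = u⁻¹ := by
        have h0 := hinv u hu
        calc i⁻¹ * u * i = i * u * i⁻¹ := by rw [hin]
          _ = u⁻¹ := h0
      have h2 : g⁻¹ * u⁻¹ * g ∈ M := hcomm _ (inv_mem hu) g
      have h3 : i * (g⁻¹ * u⁻¹ * g) * i⁻¹ = (g⁻¹ * u⁻¹ * g)⁻¹ := hinv _ h2
      have h4 : (g * i * g⁻¹ * i⁻¹) * u * (g * i * g⁻¹ * i⁻¹)⁻¹ = u := by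
        calc (g * i * g⁻¹ * i⁻¹) * u * (g * i * g⁻¹ * i⁻¹)⁻¹
            = g * (i * (g⁻¹ * (i⁻¹ * u * i) * g) * i⁻¹) * g⁻¹ := by group
          _ = g * (i * (g⁻¹ * u⁻¹ * g) * i⁻¹) * g⁻¹ := by rw [h1]
          _ = g * (g⁻¹ * u⁻¹ * g)⁻¹ * g⁻¹ := by rw [h3]
          _ = u := by group
      calc u * (g * i * g⁻¹ * i⁻¹) = ((g * i * g⁻¹ * i⁻¹) * u * (g * i * g⁻¹ * i⁻¹)⁻¹) * (g * i * g⁻¹ * i⁻¹) := by
            rw [h4]
        _ = (g * i * g⁻¹ * i⁻¹) * u := by group
    set c := g * i * g⁻¹ * i⁻¹ with hc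
    have hcop : Nat.Coprime 2 (orderOf c) := (Nat.Prime.coprime_iff_not_dvd Nat.prime_two).2 (hCodd c hcC)
    obtain ⟨m, hm⟩ := exists_pow_eq_self_of_coprime hcop
    refine ⟨c ^ m, pow_mem hcC m, ?_⟩
    set d := c ^ m with hd
    have hdC : d ∈ C := pow_mem hcC m
    have hd2 : d * d = c := by
      rw [hd, ← pow_add, ← two_mul, pow_mul]
      exact hm
    have h6 : d * i * d⁻¹ = g * i * g⁻¹ := by
      have h7 : i * d⁻¹ = d * i := by
        have h8 : i * d⁻¹ * i⁻¹ = d := by
          have := congrArg (fun y => y⁻¹) (hCinv d hdC)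
          simp only [mul_inv_rev, inv_inv] at this
          rw [← mul_assoc] at this
          exact this
        calc i * d⁻¹ = (i * d⁻¹ * i⁻¹) * i := by group
          _ = d * i := by rw [h8]
      calc d * i * d⁻¹ = d * (i * d⁻¹) := by group
        _ = (d * d) * i := by rw [h7]; group
        _ = g * i * g⁻¹ := by rw [hd2, hc]; group
    rw [commute_iff_eq]
    calc d⁻¹ * g * i = d⁻¹ * (g * i * g⁻¹) * g := by group
      _ = d⁻¹ * (d * i * d⁻¹) * g := by rw [h6]
      _ = i * (d⁻¹ * g) := by group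
  have hCn : C.Normal := by
    rw [hC]; infer_instance
  -- all primes of the component divide `|C|`
  have key : ∀ p : ℕ, Conn G r p → p ∣ Nat.card C := by
    intro p hp
    obtain ⟨hp', hpd⟩ := prime_of_conn hr hd hp
    by_contra hpC
    have hfp : Fact p.Prime := ⟨hp'⟩
    have h1 : p ∣ C.index := by
      rw [← Subgroup.card_mul_index C] at hpd
      exact (hp'.dvd_mul.1 hpd).resolve_left hpC
    let D : Subgroup G := centralizer ({i} : Set G)
    let f : D →* G ⧸ C := (QuotientGroup.mk' C).comp D.subtype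
    have hf : Function.Surjective f := by
      intro y
      obtain ⟨g, rfl⟩ := QuotientGroup.mk'_surjective C y
      obtain ⟨d, hd, hdi⟩ := hfac g
      refine ⟨⟨d⁻¹ * g, mem_centralizer_singleton_iff.2 hdi⟩, ?_⟩
      change QuotientGroup.mk' C _ = _
      rw [QuotientGroup.mk'_eq_mk']
      refine ⟨g⁻¹ * d * g, ?_, ?_⟩
      · have h9 := hCn.conj_mem d hd g⁻¹
        rw [inv_inv] at h9
        exact h9
      · change d⁻¹ * g * (g⁻¹ * d * g) = g
        group
    have h2 : p ∣ Nat.card D := by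
      have h3 := Subgroup.card_dvd_of_surjective f hf
      rw [← Subgroup.index_eq_card] at h3
      exact h1.trans h3
    obtain ⟨y, hy⟩ := exists_prime_orderOf_dvd_card' p h2
    have hyi : Commute (y : G) i := mem_centralizer_singleton_iff.1 y.2
    exact hn (hp.trans (conn_of_dvd hp' Nat.prime_two hyi (by rw [Subgroup.orderOf_coe, hy]) (by rw [hi])))
  obtain ⟨hp', -⟩ := prime_of_conn hr hd hp
  obtain ⟨hq', -⟩ := prime_of_conn hr hd hq
  have hfp : Fact p.Prime := ⟨hp'⟩
  have hfq : Fact q.Prime := ⟨hq'⟩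
  obtain ⟨a, ha⟩ := exists_prime_orderOf_dvd_card' p (key p hp)
  obtain ⟨b, hb⟩ := exists_prime_orderOf_dvd_card' q (key q hq)
  exact ⟨hp', hq', hpq, a, b, by rw [Subgroup.orderOf_coe, ha], by rw [Subgroup.orderOf_coe, hb],
    commute_of_inverts (hCinv a a.2) (hCinv b b.2) (hCinv _ (mul_mem a.2 b.2))⟩

/-- **almost simple groups** -/
theorem adj_of_almostSimple (T : Subgroup G) (hT : T.Normal) (hAC : AC T)
    (hout : ∀ p : ℕ, p.Prime → ¬ Conn G p 2 → ¬ p ∣ T.index) {r : ℕ} (hr : r.Prime) (hd : r ∣ Nat.card G)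
    (hn : ¬ Conn G r 2) {p q : ℕ} (hp : Conn G r p) (hq : Conn G r q) (hpq : p ≠ q) : Adj G p q := by
  -- elements of order `p` lie in `T`
  have hmem : ∀ p : ℕ, Conn G r p → ∀ x : G, orderOf x = p → x ∈ T := by
    intro p hp x hx
    obtain ⟨hp', -⟩ := prime_of_conn hr hd hp
    have h1 := hout p hp' (fun h => hn (hp.trans h))
    have h2 : orderOf (QuotientGroup.mk' T x) ∣ p := hx ▸ orderOf_map_dvd _ x
    rcases (Nat.dvd_prime hp').1 h2 with h | h
    · rw [orderOf_eq_one_iff] at h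
      exact (QuotientGroup.eq_one_iff x).1 h
    · exact absurd (h ▸ (Subgroup.index_eq_card T ▸ orderOf_dvd_natCard _)) h1
  have hconn : ∀ p : ℕ, Conn G r p → Conn T r p := by
    intro p hp
    unfold Conn at hp
    induction hp with
    | refl => exact Relation.ReflTransGen.refl
    | @tail b c hb hbc ih =>
      have hc : Conn G r c := Relation.ReflTransGen.tail hb hbc
      obtain ⟨hb', hc', hne, x, y, hx, hy, hxy⟩ := hbc
      refine Relation.ReflTransGen.tail ih ⟨hb', hc', hne, ⟨x, hmem b hb x hx⟩, ⟨y, hmem c hc y hy⟩, ?_, ?_, ?_⟩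
      · rw [Subgroup.orderOf_mk, hx]
      · rw [Subgroup.orderOf_mk, hy]
      · exact Subtype.ext hxy
  have hn' : ¬ Conn T r 2 := fun h => hn (h.map T.subtype T.subtype_injective)
  have hcard : ∀ p : ℕ, Conn G r p → p ∣ Nat.card T := by
    intro p hp
    obtain ⟨hp', hpd⟩ := prime_of_conn hr hd hp
    rw [← Subgroup.card_mul_index T] at hpd
    exact (hp'.dvd_mul.1 hpd).resolve_right (hout p hp' (fun h => hn (hp.trans h)))
  obtain ⟨A, hrA, hAc, hA⟩ := hAC.good r hr (hcard r Relation.ReflTransGen.refl) hn'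
  obtain ⟨hp', -⟩ := prime_of_conn hr hd hp
  obtain ⟨hq', -⟩ := prime_of_conn hr hd hq
  have hfp : Fact p.Prime := ⟨hp'⟩
  have hfq : Fact q.Prime := ⟨hq'⟩
  have hpA := (prime_iff hr hrA hAc hA hp').2 ⟨hcard p hp, hconn p hp⟩
  have hqA := (prime_iff hr hrA hAc hA hq').2 ⟨hcard q hq, hconn q hq⟩
  obtain ⟨a, ha⟩ := exists_prime_orderOf_dvd_card' p hpA
  obtain ⟨b, hb⟩ := exists_prime_orderOf_dvd_card' q hqA
  exact ⟨hp', hq', hpq, a, b, by rw [Subgroup.orderOf_coe, Subgroup.orderOf_coe, ha],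
    by rw [Subgroup.orderOf_coe, Subgroup.orderOf_coe, hb], (hAc a a.2 b b.2).map T.subtype⟩

end

/-- **The reduction.** -/
theorem clique_main
    (hodd : ∀ (X : Type u) [Group X] [Finite X], Odd (Nat.card X) → Group.IsSolvable X)
    (has : ∀ (X : Type u) [Group X] [Finite X], ¬ Group.IsSolvable X → ∀ r : ℕ, r.Prime → r ≠ 2 → r ∣ Nat.card X →
      (∀ g : X, orderOf g ≠ 2 * r) → (∀ N : Subgroup X, N.Normal → Group.IsSolvable N → N = ⊥) → Clique X)
    (n : ℕ) : ∀ (G : Type u) [Group G] [Finite G], Nat.card G = n → Clique G := by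
  induction n using Nat.strong_induction_on with
  | _ n ih =>
  intro G _ _ hcard
  by_cases hsol : Group.IsSolvable G
  · exact clique_of_solvable
  have heven : ∀ (X : Type u) [Group X] [Finite X], ¬ Group.IsSolvable X → 2 ∣ Nat.card X := by
    intro X _ _ hX
    rw [← even_iff_two_dvd, ← Nat.not_odd_iff_even]
    exact fun h => hX (hodd X h)
  intro r hr hd hn hs
  have hr2 : r ≠ 2 := by
    rintro rfl
    exact hn Relation.ReflTransGen.refl
  by_cases hrad : ∀ N : Subgroup G, N.Normal → Group.IsSolvable N → N = ⊥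
  · refine has G hsol r hr hr2 hd (fun g hg => hn ?_) hrad r hr hd hn hs
    exact conn_of_orderOf hr Nat.prime_two (x := g) (by rw [hg]; exact dvd_mul_left r 2)
      (by rw [hg]; exact dvd_mul_right 2 r)
  · push Not at hrad
    obtain ⟨N, hN, hNs, hNb⟩ := hrad
    have hM : ∃ s : ℕ, s.Prime ∧ ∃ M : Subgroup G, M.Normal ∧ IsPGroup s M ∧ M ≠ ⊥ := by
      have hNt : Nontrivial N := (Subgroup.nontrivial_iff_ne_bot _).2 hNb
      obtain ⟨s, hsp, A, hA, -, hAp, hAb⟩ := Lib.SolvableMinNormal.exists_characteristic_pgroup (G := N)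
      refine ⟨s, hsp, A.map N.subtype, ConjAct.normal_of_characteristic_of_normal, hAp.map _, ?_⟩
      rw [Ne, Subgroup.map_eq_bot_iff_of_injective _ N.subtype_injective]
      exact hAb
    obtain ⟨s, hsp, M, hMn, hM, hMb⟩ := hM
    have hfs : Fact s.Prime := ⟨hsp⟩
    intro p q hp hq hpq
    by_cases hrs : Conn G r s
    · exact adj_of_normal hM hMb (heven G hsol) hr hd hn hrs hp hq hpq
    · have hMsol : Group.IsSolvable M := by
        have := hM.isNilpotent
        infer_instance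
      have hQ : ¬ Group.IsSolvable (G ⧸ M) := fun h =>
        hsol ((Group.isSolvable_iff_subgroup_quotient M).2 ⟨hMsol, h⟩)
      have hlt : Nat.card (G ⧸ M) < n := by
        rw [← hcard, ← Subgroup.index_eq_card, ← Subgroup.card_mul_index M]
        have h1 : 1 < Nat.card M := by
          rw [Finite.one_lt_card_iff_nontrivial]
          exact (Subgroup.nontrivial_iff_ne_bot _).2 hMb
        have h2 : 0 < M.index := Nat.pos_of_ne_zero Subgroup.index_ne_zero_of_finite
        nlinarith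
      exact adj_of_quotient hM (heven _ hQ) (ih _ hlt (G ⧸ M) rfl) hr hd hn hrs hp hq hpq

end Cfsg.Agent.H457.CliqueBase
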