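import Cfsg.Prelude.Def_Solvable
import Cfsg.Agent.Lib.Cores
import Cfsg.Agent.Lib.LocalCore
import Cfsg.Agent.H457.Basic
import Cfsg.Agent.SignalizersComponents.CoprimeBasic
import Cfsg.Agent.Lib.CoprimeAbelian
import Cfsg.Agent.Lib.CoprimeCommutator
import Cfsg.Agent.SolvableStructure.AbelianSocle

/-!
# Generation of `A U` by `P` and a conjugate of `P` (helper457)

`X = A U`, `U` an abelian minimal normal `q`-subgroup with complement `A = ⟨P, P^a⟩`, `R` a normal `r`-subgroup of `A`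
without fixed points on `U`, `|C_U(P)|² < |U|`: then `X = ⟨P, P^{wa}⟩` for some `w ∈ U`.
-/

set_option autoImplicit false

namespace Cfsg.Agent.H457.CrossAct

open Subgroup Cfsg Cfsg.Agent
open scoped commutatorElement

variable {X : Type*} [Group X] [Finite X]

theorem mem_map_conj {A : Subgroup X} {g x : X} :
    x ∈ A.map (MulAut.conj g).toMonoidHom ↔ g⁻¹ * x * g ∈ A := by
  constructor
  · rintro ⟨y, hy, rfl⟩
    have e : g⁻¹ * ((MulAut.conj g).toMonoidHom y) * g = y := by
      simp [mul_assoc]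
    rw [e]; exact hy
  · intro h
    refine ⟨_, h, ?_⟩
    simp [mul_assoc]

/-- Sylow: a subgroup `C` of `S = R U`, of the same order as the `r`-group `R`, `U` normal of order prime to `r`, is
`U`-conjugate to `R`. -/
theorem exists_conj {r : ℕ} [Fact r.Prime] (R U C : Subgroup X) (hU : U.Normal) (hR : IsPGroup r R)
    (hrU : ¬ r ∣ Nat.card U) (hC : C ≤ R ⊔ U) (hcard : Nat.card C = Nat.card R) :
    ∃ u ∈ U, C = R.map (MulAut.conj u).toMonoidHom := by
  classical
  set S : Subgroup X := R ⊔ U with hS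
  have hRS : R ≤ S := le_sup_left
  have hUS : U ≤ S := le_sup_right
  have hRU : R ⊓ U = ⊥ := by
    obtain ⟨n, hn⟩ := IsPGroup.iff_card.mp hR
    apply Disjoint.eq_bot
    apply Subgroup.disjoint_of_coprime_natCard
    rw [hn]
    exact Nat.Coprime.pow_left n ((Fact.out : r.Prime).coprime_iff_not_dvd.2 hrU)
  -- index of `R` in `S`
  have hcardS : Nat.card S = Nat.card R * Nat.card U := by
    have h1 : (Nat.card R).Coprime (Nat.card U) := by
      obtain ⟨n, hn⟩ := IsPGroup.iff_card.mp hR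
      rw [hn]
      exact Nat.Coprime.pow_left n ((Fact.out : r.Prime).coprime_iff_not_dvd.2 hrU)
    have h2 := Lib.LocalCore.card_sup_of_coprime R U h1
    exact h2
  have hindex : ∀ D : Subgroup X, D ≤ S → Nat.card D = Nat.card R → ¬ r ∣ (D.subgroupOf S).index := by
    intro D hD hDc
    have h1 := Subgroup.card_mul_index (D.subgroupOf S)
    rw [Nat.card_congr (subgroupOfEquivOfLe hD).toEquiv, hDc, hcardS] at h1
    have h2 : (D.subgroupOf S).index = Nat.card U := Nat.eq_of_mul_eq_mul_left Nat.card_pos h1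
    rw [h2]; exact hrU
  have hpg : ∀ D : Subgroup X, D ≤ S → Nat.card D = Nat.card R → IsPGroup r (D.subgroupOf S) := by
    intro D hD hDc
    obtain ⟨n, hn⟩ := IsPGroup.iff_card.mp hR
    apply IsPGroup.of_card (n := n)
    rw [Nat.card_congr (subgroupOfEquivOfLe hD).toEquiv, hDc, hn]
  let PR : Sylow r S := (hpg R hRS rfl).toSylow (hindex R hRS rfl)
  let PC : Sylow r S := (hpg C hC hcard).toSylow (hindex C hC hcard)
  obtain ⟨s, hs⟩ := MulAction.exists_smul_eq S PR PC
  have h3 : (PC : Subgroup S) = (PR : Subgroup S).map (MulAut.conj s).toMonoidHom := by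
    rw [← hs]; rfl
  have hPR : (PR : Subgroup S) = R.subgroupOf S := IsPGroup.toSylow_coe _ _
  have hPC : (PC : Subgroup S) = C.subgroupOf S := IsPGroup.toSylow_coe _ _
  rw [hPR, hPC] at h3
  have h4 : C = R.map (MulAut.conj (s : X)).toMonoidHom := by
    have h5 := congrArg (Subgroup.map S.subtype) h3
    rw [subgroupOf_map_subtype, inf_eq_left.2 hC] at h5
    rw [h5]
    ext x
    simp only [Subgroup.mem_map, Subgroup.mem_subgroupOf]
    constructor
    · rintro ⟨_, ⟨y, hy, rfl⟩, rfl⟩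
      exact ⟨y, hy, by simp⟩
    · rintro ⟨y, hy, rfl⟩
      exact ⟨_, ⟨⟨y, hRS hy⟩, hy, rfl⟩, by simp⟩
  -- `s = u * ρ`
  have h5 : (s : X) ∈ U ⊔ R := by rw [sup_comm]; exact s.2
  rw [Subgroup.mem_sup_of_normal_left] at h5
  obtain ⟨u, hu, ρ, hρ, hs'⟩ := h5
  refine ⟨u, hu, ?_⟩
  rw [h4, ← hs', H94.Pronormal.map_conj_mul, H94.Pronormal.map_conj_of_mem_normalizer (le_normalizer hρ)]

/-- The complement counting lemma. -/
theorem exists_generate {q r : ℕ} [Fact q.Prime] [Fact r.Prime] (hqr : r ≠ q) (U A R P : Subgroup X)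
    (hU : U.Normal) (hUc : ∀ x ∈ U, ∀ y ∈ U, x * y = y * x) (hUq : IsPGroup q U)
    (hmin : ∀ N : Subgroup X, N ≤ U → N.Normal → N = ⊥ ∨ N = U)
    (hAU : A ⊔ U = ⊤) (hAU' : A ⊓ U = ⊥) (hRA : R ≤ A) (hAR : A ≤ normalizer (R : Set X)) (hR : IsPGroup r R)
    (hfix : U ⊓ centralizer (R : Set X) = ⊥) (a : X) (ha : a ∈ A)
    (hA : A = P ⊔ P.map (MulAut.conj a).toMonoidHom)
    (hcount : Nat.card ↥(U ⊓ centralizer (P : Set X)) ^ 2 < Nat.card U) :
    ∃ w ∈ U, P ⊔ P.map (MulAut.conj (w * a)).toMonoidHom = ⊤ := by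
  classical
  by_contra hcon
  push Not at hcon
  have hPA : P ≤ A := by rw [hA]; exact le_sup_left
  have hrU : ¬ r ∣ Nat.card U := by
    intro h
    obtain ⟨n, hn⟩ := IsPGroup.iff_card.mp hUq
    rw [hn] at h
    have := (Fact.out : r.Prime).dvd_of_dvd_pow h
    exact hqr ((Nat.prime_dvd_prime_iff_eq Fact.out Fact.out).1 this)
  -- `B w`
  let B : X → Subgroup X := fun w => P ⊔ P.map (MulAut.conj (w * a)).toMonoidHom
  have hBU : ∀ w ∈ U, B w ⊔ U = ⊤ := by
    intro w hw
    rw [eq_top_iff, ← hAU]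
    refine sup_le ?_ le_sup_right
    rw [hA]
    refine sup_le (le_sup_left.trans le_sup_left) ?_
    intro x hx
    rw [mem_map_conj] at hx
    have h1 : (w * x * w⁻¹) ∈ B w := by
      refine (le_sup_right : _ ≤ B w) ?_
      rw [mem_map_conj]
      have e : (w * a)⁻¹ * (w * x * w⁻¹) * (w * a) = a⁻¹ * x * a := by group
      rw [e]; exact hx
    have e : x = w⁻¹ * (w * x * w⁻¹) * w := by group
    rw [e]
    exact mul_mem (mul_mem ((le_sup_right : U ≤ B w ⊔ U) (inv_mem hw)) ((le_sup_left : B w ≤ B w ⊔ U) h1))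
      ((le_sup_right : U ≤ B w ⊔ U) hw)
  have hBI : ∀ w ∈ U, B w ⊓ U = ⊥ := by
    intro w hw
    have hn : (B w ⊓ U).Normal := by
      rw [← Subgroup.normalizer_eq_top_iff, eq_top_iff, ← hBU w hw]
      refine sup_le ?_ ?_
      · intro x hx
        exact inf_normalizer_le_normalizer_inf ⟨le_normalizer hx, le_normalizer_of_normal (mem_top x)⟩
      · intro x hx
        rw [mem_normalizer_iff]
        intro y
        have key : ∀ y ∈ U, x * y * x⁻¹ = y := by
          intro y hy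
          rw [hUc x hx y hy]; group
        constructor
        · intro hy
          rw [key y hy.2]; exact hy
        · intro hy
          have h1 : y ∈ U := by
            have := hU.conj_mem _ hy.2 x⁻¹
            have e : x⁻¹ * (x * y * x⁻¹) * x⁻¹⁻¹ = y := by group
            rwa [e] at this
          rwa [key y h1] at hy
    rcases hmin _ inf_le_right hn with h | h
    · exact h
    · exfalso
      have h1 : U ≤ B w := by rw [← h]; exact inf_le_left
      have h2 : B w = ⊤ := by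
        rw [← hBU w hw]; exact (sup_eq_left.2 h1).symm
      exact hcon w hw h2
  -- `R ⊔ U` is normal
  have hRUn : (R ⊔ U).Normal := by
    rw [← Subgroup.normalizer_eq_top_iff, eq_top_iff, ← hAU]
    refine sup_le ?_ ?_
    · intro x hx
      have h1 : x ∈ normalizer (R : Set X) := hAR hx
      have h2 : x ∈ normalizer (U : Set X) := le_normalizer_of_normal (mem_top x)
      exact Subgroup.normalizer_inf_normalizer_le_normalizer_sup R U (Subgroup.mem_inf.2 ⟨h1, h2⟩)
    · exact le_sup_right.trans le_normalizer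
  -- the normalizer of `R` is `A`
  have hNR : ∀ x ∈ normalizer (R : Set X), x ∈ A := by
    intro x hx
    have h1 : x ∈ U ⊔ A := by rw [sup_comm, hAU]; exact mem_top x
    rw [Subgroup.mem_sup_of_normal_left] at h1
    obtain ⟨v, hv, b, hb, rfl⟩ := h1
    have h2 : v ∈ normalizer (R : Set X) := by
      have := mul_mem hx (inv_mem (hAR hb))
      rwa [mul_inv_cancel_right] at this
    have h3 : v ∈ U ⊓ centralizer (R : Set X) := by
      refine ⟨hv, mem_centralizer_iff.2 ?_⟩
      intro ρ hρ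
      have h4 : v * ρ * v⁻¹ ∈ R := (mem_normalizer_iff.1 h2 ρ).1 hρ
      have h5 : (v * ρ * v⁻¹) * ρ⁻¹ ∈ A ⊓ U := by
        refine Subgroup.mem_inf.2 ⟨mul_mem (hRA h4) (inv_mem (hRA hρ)), ?_⟩
        have e : v * ρ * v⁻¹ * ρ⁻¹ = v * (ρ * v⁻¹ * ρ⁻¹) := by group
        rw [e]
        exact mul_mem hv (hU.conj_mem _ (inv_mem hv) ρ)
      rw [hAU', mem_bot] at h5
      have h6 : v * ρ * v⁻¹ = ρ := mul_inv_eq_one.1 h5
      calc ρ * v = (v * ρ * v⁻¹) * v := by rw [h6]
        _ = v * ρ := by group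
    rw [hfix, mem_bot] at h3
    rw [h3, one_mul]; exact hb
  have hcardRU : Nat.card ↥(R ⊔ U) = Nat.card R * Nat.card U := by
    have h1 : (Nat.card R).Coprime (Nat.card U) := by
      obtain ⟨n, hn⟩ := IsPGroup.iff_card.mp hR
      rw [hn]
      exact Nat.Coprime.pow_left n ((Fact.out : r.Prime).coprime_iff_not_dvd.2 hrU)
    exact Lib.LocalCore.card_sup_of_coprime R U h1
  -- each `B w` is contained in a conjugate of `A`
  have hBA : ∀ w ∈ U, ∃ u ∈ U, B w ≤ A.map (MulAut.conj u).toMonoidHom := by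
    intro w hw
    set C : Subgroup X := B w ⊓ (R ⊔ U) with hC
    have hCU : C ⊔ U = R ⊔ U := by
      apply le_antisymm
      · exact sup_le inf_le_right le_sup_right
      · intro x hx
        have h1 : x ∈ U ⊔ B w := by rw [sup_comm, hBU w hw]; exact mem_top x
        rw [Subgroup.mem_sup_of_normal_left] at h1
        obtain ⟨v, hv, b, hb, rfl⟩ := h1
        have h2 : b ∈ R ⊔ U := by
          have := mul_mem (inv_mem ((le_sup_right : U ≤ R ⊔ U) hv)) hx
          rwa [inv_mul_cancel_left] at this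
        exact mul_mem ((le_sup_right : U ≤ C ⊔ U) hv) ((le_sup_left : C ≤ C ⊔ U) ⟨hb, h2⟩)
    have hCI : C ⊓ U = ⊥ := by
      rw [eq_bot_iff, ← hBI w hw]
      exact inf_le_inf inf_le_left le_rfl
    have hCcard : Nat.card C = Nat.card R := by
      have h1 := Subgroup.card_mul_index (U.subgroupOf (R ⊔ U))
      rw [Nat.card_congr (subgroupOfEquivOfLe (le_sup_right : U ≤ R ⊔ U)).toEquiv, hcardRU] at h1
      have h2 : (U.subgroupOf (R ⊔ U)).index = Nat.card R := by
        rw [mul_comm] at h1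
        exact Nat.eq_of_mul_eq_mul_right Nat.card_pos h1
      have h3 : U.relIndex C = U.relIndex (C ⊔ U) := by
        rw [Subgroup.relIndex_sup_right]
      have h4 : U.relIndex C = Nat.card C := by
        rw [← Subgroup.relIndex_bot_left, ← hCI, inf_comm, Subgroup.inf_relIndex_right]
      rw [← h4, h3, hCU, Subgroup.relIndex, h2]
    obtain ⟨u, hu, hCR⟩ := exists_conj R U C hU hR hrU inf_le_right hCcard
    refine ⟨u, hu, ?_⟩
    intro b hb
    rw [mem_map_conj]
    apply hNR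
    apply H457.mem_normalizer_of_map_conj_eq
    -- `b` normalizes `C = R^u`
    have h1 : C.map (MulAut.conj b).toMonoidHom = C := by
      apply H94.Pronormal.map_conj_of_mem_normalizer
      exact inf_normalizer_le_normalizer_inf ⟨le_normalizer hb, le_normalizer_of_normal (mem_top b)⟩
    rw [hCR] at h1
    rw [← H94.Pronormal.map_conj_mul] at h1
    have h2 := congrArg (Subgroup.map (MulAut.conj u⁻¹).toMonoidHom) h1
    rw [← H94.Pronormal.map_conj_mul, ← H94.Pronormal.map_conj_mul, inv_mul_cancel,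
      H94.Pronormal.map_conj_one, ← mul_assoc] at h2
    exact h2
  -- counting
  set F : Subgroup X := U ⊓ centralizer (P : Set X) with hF
  let φ : F × F → U := fun z => ⟨(z.1 : X) * (a * z.2 * a⁻¹), mul_mem z.1.2.1 (hU.conj_mem _ z.2.2.1 a)⟩
  have hφ : Function.Surjective φ := by
    rintro ⟨w, hw⟩
    obtain ⟨u, hu, hBu⟩ := hBA w hw
    have hu1 : u ∈ F := by
      refine ⟨hu, mem_centralizer_iff.2 ?_⟩
      intro x hx
      have h1 : x ∈ A.map (MulAut.conj u).toMonoidHom := hBu ((le_sup_left : P ≤ B w) hx)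
      rw [mem_map_conj] at h1
      have h2 : x⁻¹ * (u⁻¹ * x * u) ∈ A ⊓ U := by
        refine Subgroup.mem_inf.2 ⟨mul_mem (inv_mem (hPA hx)) h1, ?_⟩
        have e : x⁻¹ * (u⁻¹ * x * u) = (x⁻¹ * u⁻¹ * x⁻¹⁻¹) * u := by group
        rw [e]
        exact mul_mem (hU.conj_mem _ (inv_mem hu) x⁻¹) hu
      rw [hAU', mem_bot] at h2
      have h3 : u⁻¹ * x * u = x := (inv_mul_eq_one.1 h2).symm
      calc x * u = u * (u⁻¹ * x * u) := by group
        _ = u * x := by rw [h3]
    have hv : u⁻¹ * w ∈ U := mul_mem (inv_mem hu) hw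
    have hv1 : a⁻¹ * (u⁻¹ * w) * a ∈ F := by
      refine ⟨by simpa using hU.conj_mem _ hv a⁻¹, mem_centralizer_iff.2 ?_⟩
      intro x hx
      have hy : a * x * a⁻¹ ∈ A := mul_mem (mul_mem ha (hPA hx)) (inv_mem ha)
      have h1 : (w * a) * x * (w * a)⁻¹ ∈ A.map (MulAut.conj u).toMonoidHom := by
        apply hBu
        apply (le_sup_right : _ ≤ B w)
        rw [mem_map_conj]
        have e : (w * a)⁻¹ * ((w * a) * x * (w * a)⁻¹) * (w * a) = x := by group
        rw [e]; exact hx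
      rw [mem_map_conj] at h1
      have h2 : (a * x * a⁻¹)⁻¹ * (u⁻¹ * ((w * a) * x * (w * a)⁻¹) * u) ∈ A ⊓ U := by
        refine Subgroup.mem_inf.2 ⟨mul_mem (inv_mem hy) h1, ?_⟩
        have e : (a * x * a⁻¹)⁻¹ * (u⁻¹ * ((w * a) * x * (w * a)⁻¹) * u) =
            ((a * x * a⁻¹)⁻¹ * (u⁻¹ * w) * ((a * x * a⁻¹)⁻¹)⁻¹) * (w⁻¹ * u) := by group
        rw [e]
        exact mul_mem (hU.conj_mem _ hv _) (mul_mem (inv_mem hw) hu)
      rw [hAU', mem_bot] at h2
      have h3 : u⁻¹ * ((w * a) * x * (w * a)⁻¹) * u = a * x * a⁻¹ := (inv_mul_eq_one.1 h2).symm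
      have hcomm : w⁻¹ * u = u * w⁻¹ := hUc _ (inv_mem hw) _ hu
      have h4 : (u⁻¹ * w) * (a * x * a⁻¹) * (u⁻¹ * w)⁻¹ = a * x * a⁻¹ := by
        rw [← h3]
        have e : (u⁻¹ * w)⁻¹ = w⁻¹ * u := by group
        rw [e]
        have e2 : u⁻¹ * (w * a * x * (w * a)⁻¹) * u = (u⁻¹ * w) * (a * x * a⁻¹) * (w⁻¹ * u) := by group
        have e3 : u⁻¹ * w = w * u⁻¹ := hUc _ (inv_mem hu) _ hw
        rw [e2]
        rw [e2] at h3
        rw [h3]
        exact h3
      calc x * (a⁻¹ * (u⁻¹ * w) * a) = a⁻¹ * ((a * x * a⁻¹) * (u⁻¹ * w)) * a := by group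
        _ = a⁻¹ * (((u⁻¹ * w) * (a * x * a⁻¹) * (u⁻¹ * w)⁻¹) * (u⁻¹ * w)) * a := by rw [h4]
        _ = a⁻¹ * (u⁻¹ * w) * a * x := by group
    refine ⟨(⟨u, hu1⟩, ⟨_, hv1⟩), ?_⟩
    apply Subtype.ext
    change u * (a * (a⁻¹ * (u⁻¹ * w) * a) * a⁻¹) = w
    group
  have h1 := Nat.card_le_card_of_surjective φ hφ
  rw [Nat.card_prod, ← pow_two] at h1
  exact absurd hcount (not_lt.2 h1)

end Cfsg.Agent.H457.CrossAct
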