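import Cfsg.Agent.S3818
import Cfsg.Agent.OddOrderLocal.FrobAct

/-!
# The fixed space of an element of prime order `p > 3` (helper457)

Group-theoretic form of S3818: `|C_V(P)|² < |V|`.
-/

set_option autoImplicit false

namespace Cfsg.Agent.H457.HalfFix

open Subgroup Cfsg Cfsg.Agent Module

theorem toRep_apply {A V : Type*} [Group A] [CommGroup V] (q : ℕ) [Module (ZMod q) (Additive V)]
    (γ : A →* MulAut V) (a : A) (v : V) :
    OddOrderLocal.FrobAct.toRep q γ a (Additive.ofMul v) = Additive.ofMul (γ a v) := rfl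

/-- An irreducible action on an elementary abelian group is an irreducible representation. -/
theorem isIrreducible {A V : Type*} [Group A] [CommGroup V] [Nontrivial V] (q : ℕ) [Fact q.Prime]
    [Module (ZMod q) (Additive V)]
    (γ : A →* MulAut V) (hirr : ∀ W : Subgroup V, (∀ a, ∀ w ∈ W, γ a w ∈ W) → W = ⊥ ∨ W = ⊤) :
    (OddOrderLocal.FrobAct.toRep q γ).IsIrreducible := by
  have hnt : Nontrivial (Subrepresentation (OddOrderLocal.FrobAct.toRep q γ)) := by
    refine ⟨⊥, ⊤, ?_⟩
    intro h
    have h1 : (⊥ : Submodule (ZMod q) (Additive V)) = ⊤ := congrArg Subrepresentation.toSubmodule h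
    have h2 : Nontrivial (Additive V) := inferInstance
    exact bot_ne_top h1
  refine { exists_pair_ne := hnt.exists_pair_ne, eq_bot_or_eq_top := ?_ }
  intro σ
  let W : Subgroup V := AddSubgroup.toSubgroup' σ.toSubmodule.toAddSubgroup
  have hmem : ∀ v : V, v ∈ W ↔ Additive.ofMul v ∈ σ.toSubmodule := fun v => Iff.rfl
  rcases hirr W (fun a w hw => σ.apply_mem_toSubmodule a ((hmem w).1 hw)) with h | h
  · left
    apply Subrepresentation.toSubmodule_injective
    change σ.toSubmodule = (⊥ : Submodule (ZMod q) (Additive V))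
    rw [eq_bot_iff]
    intro v hv
    have h1 : Additive.toMul v ∈ W := hv
    rw [h, Subgroup.mem_bot] at h1
    exact congrArg Additive.ofMul h1
  · right
    apply Subrepresentation.toSubmodule_injective
    change σ.toSubmodule = (⊤ : Submodule (ZMod q) (Additive V))
    rw [eq_top_iff]
    intro v _
    have h1 : Additive.toMul v ∈ W := by rw [h]; exact Subgroup.mem_top _
    exact h1

/-- the case of a faithful action -/
theorem card_lt_of_injective {A V : Type*} [Group A] [Finite A] [Group.IsSolvable A] [CommGroup V] [Finite V]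
    [Nontrivial V] {q : ℕ} [hq : Fact q.Prime] (hexp : ∀ v : V, v ^ q = 1) (γ : A →* MulAut V)
    (hγ : Function.Injective γ)
    (hirr : ∀ W : Subgroup V, (∀ a, ∀ w ∈ W, γ a w ∈ W) → W = ⊥ ∨ W = ⊤)
    {p : ℕ} [Fact p.Prime] (hp : 3 < p) (P : Subgroup A) (hP : Nat.card P = p)
    (hgen : normalClosure (P : Set A) = ⊤) :
    Nat.card {v : V // ∀ x ∈ P, γ x v = v} ^ 2 < Nat.card V := by
  have instM : Module (ZMod q) (Additive V) := AddCommGroup.zmodModule (n := q) (by
    intro x
    exact congrArg Additive.ofMul (hexp x.toMul))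
  have hfin : FiniteDimensional (ZMod q) (Additive V) := inferInstance
  have hirr' := isIrreducible q γ hirr
  have hinj : Function.Injective (OddOrderLocal.FrobAct.toRep q γ) := by
    intro a b hab
    apply hγ
    ext v
    exact congrArg Additive.toMul (LinearMap.congr_fun hab (Additive.ofMul v))
  have key := S3818.result hp P hP hgen q (OddOrderLocal.FrobAct.toRep q γ) hinj
  have hcardV : Nat.card V = q ^ finrank (ZMod q) (Additive V) := by
    have := Module.natCard_eq_pow_finrank (K := ZMod q) (V := Additive V)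
    rw [Nat.card_zmod] at this
    exact this
  set F : Submodule (ZMod q) (Additive V) :=
    ⨅ g : ↥P, LinearMap.ker ((OddOrderLocal.FrobAct.toRep q γ) (g : A) - LinearMap.id) with hF
  have hcardF : Nat.card {v : V // ∀ x ∈ P, γ x v = v} = q ^ finrank (ZMod q) F := by
    have := Module.natCard_eq_pow_finrank (K := ZMod q) (V := F)
    rw [Nat.card_zmod] at this
    rw [← this]
    refine Nat.card_congr
      { toFun := fun x => ⟨Additive.ofMul x.1, ?_⟩
        invFun := fun x => ⟨Additive.toMul x.1, ?_⟩
        left_inv := fun x => rfl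
        right_inv := fun x => rfl }
    · rw [hF, Submodule.mem_iInf]
      intro g
      rw [LinearMap.mem_ker, LinearMap.sub_apply, LinearMap.id_apply, sub_eq_zero]
      exact congrArg Additive.ofMul (x.2 g g.2)
    · intro g hg
      have h2 := (Submodule.mem_iInf _).1 x.2 ⟨g, hg⟩
      rw [LinearMap.mem_ker, LinearMap.sub_apply, LinearMap.id_apply, sub_eq_zero] at h2
      exact congrArg Additive.toMul h2
  rw [hcardV, hcardF, ← pow_mul, mul_comm]
  exact Nat.pow_lt_pow_right hq.out.one_lt key

/-- **Group-theoretic form of S3818.** -/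
theorem card_lt {A V : Type*} [Group A] [Finite A] [Group.IsSolvable A] [CommGroup V] [Finite V]
    [Nontrivial V] {q : ℕ} [hq : Fact q.Prime] (hexp : ∀ v : V, v ^ q = 1) (γ : A →* MulAut V)
    (hirr : ∀ W : Subgroup V, (∀ a, ∀ w ∈ W, γ a w ∈ W) → W = ⊥ ∨ W = ⊤)
    {p : ℕ} [hpp : Fact p.Prime] (hp : 3 < p) (P : Subgroup A) (hP : Nat.card P = p)
    (hgen : normalClosure (P : Set A) = ⊤) (hnt : ∃ x ∈ P, γ x ≠ 1) :
    Nat.card {v : V // ∀ x ∈ P, γ x v = v} ^ 2 < Nat.card V := by
  let f : A →* γ.range := γ.rangeRestrict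
  have hf : Function.Surjective f := γ.rangeRestrict_surjective
  have hsol : Group.IsSolvable γ.range := Group.isSolvable_of_surjective hf
  have hker : ∀ x ∈ P, f x = 1 → x = 1 := by
    -- `P` has prime order and acts nontrivially
    have h1 : P ⊓ f.ker = ⊥ := by
      obtain ⟨y, hy, hy1⟩ := hnt
      by_contra hne
      have h2 : Nat.card ↥(P ⊓ f.ker) ∣ Nat.card P := card_dvd_of_le inf_le_left
      rw [hP] at h2
      rcases (Nat.dvd_prime hpp.out).1 h2 with h3 | h3
      · exact hne (Subgroup.card_eq_one.1 h3)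
      · have h4 : P ⊓ f.ker = P := by
          apply Subgroup.eq_of_le_of_card_ge inf_le_left
          rw [h3, hP]
        have h5 : y ∈ f.ker := (Subgroup.mem_inf.1 (by rw [h4]; exact hy : y ∈ P ⊓ f.ker)).2
        rw [MonoidHom.mem_ker] at h5
        exact hy1 (congrArg Subtype.val h5)
    intro x hx hx1
    have : x ∈ P ⊓ f.ker := ⟨hx, hx1⟩
    rw [h1] at this
    exact Subgroup.mem_bot.1 this
  have hPc : Nat.card (P.map f) = p := by
    rw [← hP]
    refine (Nat.card_congr (Equiv.ofBijective (f.subgroupMap P) ⟨?_, f.subgroupMap_surjective P⟩)).symm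
    rw [injective_iff_map_eq_one]
    intro x hx
    apply Subtype.ext
    exact hker x x.2 (congrArg Subtype.val hx)
  have hgen' : normalClosure ((P.map f : Subgroup γ.range) : Set γ.range) = ⊤ := by
    rw [Subgroup.coe_map, ← Subgroup.map_normalClosure _ f hf, hgen, ← MonoidHom.range_eq_map]
    exact MonoidHom.range_eq_top.2 hf
  have key := card_lt_of_injective hexp γ.range.subtype γ.range.subtype_injective
    (fun W hW => hirr W (fun a w hw => hW (f a) w hw)) hp (P.map f) hPc hgen'
  have e : Nat.card {v : V // ∀ x ∈ P.map f, γ.range.subtype x v = v} = Nat.card {v : V // ∀ x ∈ P, γ x v = v} := by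
    refine Nat.card_congr (Equiv.subtypeEquivRight ?_)
    intro v
    constructor
    · intro h x hx
      exact h (f x) ⟨x, hx, rfl⟩
    · rintro h _ ⟨x, hx, rfl⟩
      exact h x hx
  rw [← e]
  exact key

end Cfsg.Agent.H457.HalfFix
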