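import Cfsg.Agent.H457.CrossAct
import Cfsg.Agent.H457.HalfFix
import Cfsg.Agent.SignalizersComponents.ClassTwo

/-!
# Generation of `A W` by `P` and a conjugate of `P` (helper457)

`G = A W`, `W` a normal `q`-group, `A = ⟨P, P^a⟩` solvable, `|P| = p > 3`, `R` a normal `r`-subgroup of `A` (`r ≠ q`)
which acts nontrivially on `W` but trivially on the proper `G`-invariant subgroups of `W`: then `G = ⟨P, P^{wa}⟩` for some
`w ∈ W`.
-/

set_option autoImplicit false

namespace Cfsg.Agent.H457.CrossMain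

open Subgroup Cfsg Cfsg.Agent
open scoped commutatorElement

/-- The count `|C_U(P)|² < |U|` for an abelian minimal normal subgroup `U` of `X = A U`. -/
theorem card_sq_lt {X : Type*} [Group X] [Finite X] {q : ℕ} [hq : Fact q.Prime] (U A P : Subgroup X)
    (hU : U.Normal) (hUc : ∀ x ∈ U, ∀ y ∈ U, x * y = y * x) (hUq : IsPGroup q U) (hU1 : U ≠ ⊥)
    (hmin : ∀ N : Subgroup X, N ≤ U → N.Normal → N = ⊥ ∨ N = U)
    (hAU : A ⊔ U = ⊤) (hsol : Group.IsSolvable A) {p : ℕ} [hpp : Fact p.Prime] (hp : 3 < p) (hPA : P ≤ A)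
    (hP : Nat.card P = p) (hgen : ∀ N : Subgroup X, P ≤ N → A ≤ normalizer (N : Set X) → A ≤ N)
    (hnt : ¬ A ≤ centralizer (U : Set X)) :
    Nat.card ↥(U ⊓ centralizer (P : Set X)) ^ 2 < Nat.card U := by
  classical
  letI instC : CommGroup U := { (inferInstance : Group U) with
    mul_comm := fun x y => Subtype.ext (hUc x x.2 y y.2) }
  have hnon : Nontrivial U := (Subgroup.nontrivial_iff_ne_bot U).2 hU1
  -- exponent `q`
  have hexp : ∀ u ∈ U, u ^ q = 1 := by
    let N : Subgroup X :=
      { carrier := {u | u ∈ U ∧ u ^ q = 1}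
        one_mem' := ⟨one_mem _, one_pow _⟩
        mul_mem' := by
          rintro x y ⟨hx, hx1⟩ ⟨hy, hy1⟩
          refine ⟨mul_mem hx hy, ?_⟩
          have : Commute x y := hUc x hx y hy
          rw [this.mul_pow, hx1, hy1, one_mul]
        inv_mem' := by
          rintro x ⟨hx, hx1⟩
          exact ⟨inv_mem hx, by rw [inv_pow, hx1, inv_one]⟩ }
    have hNn : N.Normal := by
      refine ⟨?_⟩
      rintro x ⟨hx, hx1⟩ g
      exact ⟨hU.conj_mem x hx g, by rw [conj_pow, hx1, mul_one, mul_inv_cancel]⟩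
    rcases hmin N (fun x hx => hx.1) hNn with h | h
    · exfalso
      -- an element of order `q`
      have hdvd : q ∣ Nat.card U := by
        obtain ⟨n, hn⟩ := IsPGroup.iff_card.mp hUq
        have hn0 : n ≠ 0 := by
          rintro rfl
          rw [pow_zero] at hn
          exact hU1 (Subgroup.card_eq_one.1 hn)
        rw [hn]; exact dvd_pow_self q hn0
      obtain ⟨u, hu⟩ := exists_prime_orderOf_dvd_card' q hdvd
      have h1 : (u : X) ∈ N := by
        refine ⟨u.2, ?_⟩
        rw [← Subgroup.coe_pow, ← hu, pow_orderOf_eq_one, Subgroup.coe_one]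
      rw [h, Subgroup.mem_bot] at h1
      have h2 : u = 1 := Subtype.ext h1
      rw [h2, orderOf_one] at hu
      exact hq.out.one_lt.ne hu
    · intro u hu
      rw [← h] at hu
      exact hu.2
  let γ : A →* MulAut U := (MulAut.conjNormal (H := U)).comp A.subtype
  have hγ : ∀ (a : A) (u : U), ((γ a u : U) : X) = a * u * (a : X)⁻¹ := fun a u => MulAut.conjNormal_apply _ _
  have hirr : ∀ W : Subgroup U, (∀ a, ∀ w ∈ W, γ a w ∈ W) → W = ⊥ ∨ W = ⊤ := by
    intro W hW
    have hWn : (W.map U.subtype).Normal := by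
      rw [← Subgroup.normalizer_eq_top_iff, eq_top_iff, ← hAU]
      have hA : ∀ a ∈ A, ∀ x ∈ W.map U.subtype, a * x * a⁻¹ ∈ W.map U.subtype := by
        rintro a ha _ ⟨w, hw, rfl⟩
        exact ⟨γ ⟨a, ha⟩ w, hW _ _ hw, hγ _ _⟩
      have hU' : ∀ a ∈ U, ∀ x ∈ W.map U.subtype, a * x * a⁻¹ ∈ W.map U.subtype := by
        rintro a ha _ ⟨w, hw, rfl⟩
        have : a * (U.subtype w) * a⁻¹ = U.subtype w := by
          have h1 : a * (w : X) = w * a := hUc a ha w w.2
          change a * (w : X) * a⁻¹ = w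
          rw [h1]; group
        rw [this]; exact ⟨w, hw, rfl⟩
      have hgen : ∀ B : Subgroup X, (∀ a ∈ B, ∀ x ∈ W.map U.subtype, a * x * a⁻¹ ∈ W.map U.subtype) →
          B ≤ normalizer ((W.map U.subtype : Subgroup X) : Set X) := by
        intro B hB a ha
        rw [mem_normalizer_iff]
        intro x
        constructor
        · exact hB a ha x
        · intro hx
          have := hB a⁻¹ (inv_mem ha) _ hx
          have e : a⁻¹ * (a * x * a⁻¹) * a⁻¹⁻¹ = x := by group
          rwa [e] at this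
      exact sup_le (hgen A hA) (hgen U hU')
    rcases hmin _ (map_subtype_le W) hWn with h | h
    · left
      exact (Subgroup.map_eq_bot_iff_of_injective _ U.subtype_injective).1 h
    · right
      rw [eq_top_iff]
      intro u _
      have h1 : (u : X) ∈ W.map U.subtype := by rw [h]; exact u.2
      obtain ⟨w, hw, hwu⟩ := h1
      exact (Subtype.ext hwu : w = u) ▸ hw
  have hPc : Nat.card (P.subgroupOf A) = p := by
    rw [Nat.card_congr (subgroupOfEquivOfLe hPA).toEquiv, hP]
  have hgen' : normalClosure ((P.subgroupOf A : Subgroup A) : Set A) = ⊤ := by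
    set M : Subgroup A := normalClosure ((P.subgroupOf A : Subgroup A) : Set A) with hM
    have hMn : M.Normal := normalClosure_normal
    have h1 : A ≤ M.map A.subtype := by
      apply hgen
      · intro x hx
        exact ⟨⟨x, hPA hx⟩, subset_normalClosure hx, rfl⟩
      · exact Lib.LocalCore.le_normalizer_map_subtype A M hMn
    rw [eq_top_iff]
    intro x _
    obtain ⟨y, hy, hyx⟩ := h1 x.2
    exact (Subtype.ext hyx : y = x) ▸ hy
  have hnt' : ∃ x ∈ P.subgroupOf A, γ x ≠ 1 := by
    by_contra hcon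
    push Not at hcon
    apply hnt
    -- `P` centralizes `U`
    have hPU : P ≤ centralizer (U : Set X) := by
      intro x hx
      rw [mem_centralizer_iff]
      intro u hu
      have h1 := hcon ⟨x, hPA hx⟩ hx
      have h2 := hγ ⟨x, hPA hx⟩ ⟨u, hu⟩
      rw [h1] at h2
      have h3 : u = x * u * x⁻¹ := h2
      calc u * x = (x * u * x⁻¹) * x := by rw [← h3]
        _ = x * u := by group
    apply hgen _ hPU
    have : (centralizer (U : Set X)).Normal := by
      have := hU
      infer_instance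
    exact le_normalizer_of_normal
  have key := HalfFix.card_lt (A := A) (V := U) (q := q)
    (fun v => Subtype.ext (by rw [Subgroup.coe_pow]; exact hexp v v.2)) γ hirr hp (P.subgroupOf A) hPc hgen' hnt'
  have e : Nat.card {v : U // ∀ x ∈ P.subgroupOf A, γ x v = v} = Nat.card ↥(U ⊓ centralizer (P : Set X)) := by
    refine Nat.card_congr
      { toFun := fun v => ⟨(v.1 : X), mem_inf.2 ⟨v.1.2, ?_⟩⟩
        invFun := fun v => ⟨⟨v.1, (mem_inf.1 v.2).1⟩, ?_⟩
        left_inv := fun v => rfl
        right_inv := fun v => rfl }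
    · rw [mem_centralizer_iff]
      intro x hx
      have h1 := congrArg Subtype.val (v.2 ⟨x, hPA hx⟩ hx)
      rw [hγ] at h1
      have h3 : x * (v.1 : X) * x⁻¹ = v.1 := h1
      calc x * (v.1 : X) = (x * (v.1 : X) * x⁻¹) * x := by group
        _ = v.1 * x := by rw [h3]
    · intro x hx
      apply Subtype.ext
      rw [hγ]
      have h1 : (x : X) * v.1 = v.1 * x := mem_centralizer_iff.1 (mem_inf.1 v.2).2 x hx
      change (x : X) * v.1 * (x : X)⁻¹ = v.1
      rw [h1]; group
  rw [← e]
  exact key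

theorem exists_generate {G : Type*} [Group G] [Finite G] {q r : ℕ} [hq : Fact q.Prime] [hr : Fact r.Prime]
    (hrq : r ≠ q) (W A R P : Subgroup G) (hW : W.Normal) (hWq : IsPGroup q W) (hAW : A ⊔ W = ⊤)
    (hsol : Group.IsSolvable A) (hRA : R ≤ A) (hAR : A ≤ normalizer (R : Set G)) (hR : IsPGroup r R)
    (hRW : ¬ R ≤ centralizer (W : Set G))
    (hmin : ∀ W' : Subgroup G, W' < W → W'.Normal → R ≤ centralizer (W' : Set G))
    {p : ℕ} [hpp : Fact p.Prime] (hp : 3 < p) (hP : Nat.card P = p) (a : G) (ha : a ∈ A)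
    (hA : A = P ⊔ P.map (MulAut.conj a).toMonoidHom) :
    ∃ w ∈ W, P ⊔ P.map (MulAut.conj (w * a)).toMonoidHom = ⊤ := by
  classical
  have hPA : P ≤ A := by rw [hA]; exact le_sup_left
  have hcop : (Nat.card R).Coprime (Nat.card W) := by
    obtain ⟨n, hn⟩ := IsPGroup.iff_card.mp hR
    obtain ⟨m, hm⟩ := IsPGroup.iff_card.mp hWq
    rw [hn, hm]
    exact Nat.Coprime.pow _ _ ((Nat.coprime_primes hr.out hq.out).2 hrq)
  have hRWbot : R ⊓ W = ⊥ := Disjoint.eq_bot (Subgroup.disjoint_of_coprime_natCard hcop)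
  have hRnW : R ≤ normalizer (W : Set G) := le_normalizer_of_normal
  have hWne : W ≠ ⊥ := by
    rintro rfl
    apply hRW
    intro x _
    rw [mem_centralizer_iff]
    rintro _ (h : _ = 1)
    rw [h, one_mul, mul_one]
  -- `T = [W, W]`
  set T : Subgroup G := ⁅W, W⁆ with hT
  have hTn : T.Normal := by
    have := hW
    infer_instance
  have hTW : T ≤ W := commutator_le_left _ _
  have hWnil : Group.IsNilpotent W := hWq.isNilpotent
  have hTsub : T.subgroupOf W = commutator W := by
    rw [hT, commutator_def]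
    apply Subgroup.map_injective W.subtype_injective
    rw [subgroupOf_map_subtype, map_commutator, ← MonoidHom.range_eq_map, Subgroup.range_subtype,
      inf_eq_left.2 (commutator_le_left _ _)]
  have hTlt : T < W := by
    refine lt_of_le_of_ne hTW ?_
    intro h
    have h1 : (⊥ : Subgroup W) ⊔ commutator W = ⊤ := by
      rw [← hTsub, h, bot_sup_eq, subgroupOf_self]
    have h2 := SolvableStructure.AbelianSocle.eq_top_of_sup_commutator h1
    have h3 : Nontrivial W := (Subgroup.nontrivial_iff_ne_bot W).2 hWne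
    exact bot_ne_top h2
  -- `[W, R] = W`
  have hWR : ⁅W, R⁆ = W := by
    have hle : ⁅W, R⁆ ≤ W := Lib.CoprimeCommutator.commutator_le_left hRnW
    by_contra hne
    have hn : (⁅W, R⁆).Normal := by
      rw [← Subgroup.normalizer_eq_top_iff, eq_top_iff, ← hAW]
      refine sup_le ?_ (normalizer_commutator_ge_left _ _)
      exact SignalizersComponents.ClassTwo.le_normalizer_commutator le_normalizer_of_normal hAR
    have h1 := hmin _ (lt_of_le_of_ne hle hne) hn
    exact hRW (Lib.CoprimeCommutator.le_centralizer_of_commutator R W hRnW hcop h1)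
  -- the quotient
  let f : G →* G ⧸ T := QuotientGroup.mk' T
  have hf : Function.Surjective f := QuotientGroup.mk'_surjective T
  have hker : f.ker = T := QuotientGroup.ker_mk' T
  have hUn : (W.map f).Normal := hW.map f hf
  have hUc : ∀ x ∈ W.map f, ∀ y ∈ W.map f, x * y = y * x := by
    rintro _ ⟨x, hx, rfl⟩ _ ⟨y, hy, rfl⟩
    have h1 : ⁅x, y⁆ ∈ T := commutator_mem_commutator hx hy
    rw [← hker, MonoidHom.mem_ker, map_commutatorElement, commutatorElement_eq_one_iff_mul_comm] at h1
    exact h1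
  have hUq : IsPGroup q (W.map f) := hWq.map f
  have hcop' : (Nat.card (R.map f)).Coprime (Nat.card (W.map f)) := by
    refine (hcop.coprime_dvd_left ?_).coprime_dvd_right ?_
    · exact card_dvd_of_surjective (f.subgroupMap R) (f.subgroupMap_surjective R)
    · exact card_dvd_of_surjective (f.subgroupMap W) (f.subgroupMap_surjective W)
  have hfix : W.map f ⊓ centralizer ((R.map f : Subgroup (G ⧸ T)) : Set (G ⧸ T)) = ⊥ := by
    have h1 := Lib.CoprimeAbelian.inf_commutator_eq_bot (R.map f) (W.map f) hUc le_normalizer_of_normal hcop'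
    rw [← map_commutator, hWR] at h1
    rw [eq_bot_iff, ← h1]
    exact le_inf le_rfl inf_le_left
  have hcomapU : (W.map f).comap f = W := by
    rw [Subgroup.comap_map_eq, hker, sup_eq_left.2 hTW]
  have hminU : ∀ N : Subgroup (G ⧸ T), N ≤ W.map f → N.Normal → N = ⊥ ∨ N = W.map f := by
    intro N hN hNn
    have h1 : N.comap f ≤ W := by
      rw [← hcomapU]; exact Subgroup.comap_mono hN
    have h2 : (N.comap f).map f = N := Subgroup.map_comap_eq_self_of_surjective hf N
    rcases eq_or_ne (N.comap f) W with h | h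
    · right; rw [← h2, h]
    · left
      have h3 := hmin _ (lt_of_le_of_ne h1 h) (hNn.comap f)
      rw [eq_bot_iff, ← hfix]
      refine le_inf hN ?_
      rw [← h2]
      rintro _ ⟨x, hx, rfl⟩
      rw [mem_centralizer_iff]
      rintro _ ⟨ρ, hρ, rfl⟩
      rw [← map_mul, ← map_mul]
      exact congrArg f (mem_centralizer_iff.1 (h3 hρ) x hx).symm
  have hAU : A.map f ⊔ W.map f = ⊤ := by
    rw [← Subgroup.map_sup, hAW, ← MonoidHom.range_eq_map]
    exact MonoidHom.range_eq_top.2 hf
  have hAWR : ∀ x ∈ A, x ∈ W → ∀ ρ ∈ R, ρ * x = x * ρ := by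
    intro x hxA hxW ρ hρ
    have h1 : ρ * x * ρ⁻¹ * x⁻¹ ∈ R ⊓ W := by
      refine mem_inf.2 ⟨?_, ?_⟩
      · have h2 : x * ρ⁻¹ * x⁻¹ ∈ R := (mem_normalizer_iff.1 (hAR hxA) _).1 (inv_mem hρ)
        have e : ρ * x * ρ⁻¹ * x⁻¹ = ρ * (x * ρ⁻¹ * x⁻¹) := by group
        rw [e]; exact mul_mem hρ h2
      · exact mul_mem (hW.conj_mem x hxW ρ) (inv_mem hxW)
    rw [hRWbot, mem_bot] at h1
    have h3 : ρ * x * ρ⁻¹ = x := mul_inv_eq_one.1 h1
    calc ρ * x = (ρ * x * ρ⁻¹) * ρ := by group
      _ = x * ρ := by rw [h3]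
  have hAU' : A.map f ⊓ W.map f = ⊥ := by
    rw [eq_bot_iff, ← hfix]
    rintro _ ⟨⟨x, hx, rfl⟩, hxU⟩
    have hxW : x ∈ W := by rw [← hcomapU]; exact hxU
    refine mem_inf.2 ⟨hxU, mem_centralizer_iff.2 ?_⟩
    rintro _ ⟨ρ, hρ, rfl⟩
    rw [← map_mul, ← map_mul, hAWR x hx hxW ρ hρ]
  have hPmap : Nat.card (P.map f) = p := by
    -- `P` meets `T` trivially: `P ∩ T ≤ A ∩ W`, whose elements are fixed by `R`
    have h1 : P ⊓ T = ⊥ := by
      by_contra hne
      have h2 : Nat.card ↥(P ⊓ T) ∣ Nat.card P := card_dvd_of_le inf_le_left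
      rw [hP] at h2
      rcases (Nat.dvd_prime hpp.out).1 h2 with h3 | h3
      · exact hne (Subgroup.card_eq_one.1 h3)
      · have h4 : P ⊓ T = P := by
          apply Subgroup.eq_of_le_of_card_ge inf_le_left
          rw [h3, hP]
        have hPT : P ≤ T := by rw [← h4]; exact inf_le_right
        -- then `A ≤ T`, so `R ≤ W`
        have hAT : A ≤ T := by
          rw [hA]
          refine sup_le hPT ?_
          rintro _ ⟨x, hx, rfl⟩
          exact hTn.conj_mem x (hPT hx) a
        have hR1 : R = ⊥ := by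
          rw [eq_bot_iff, ← hRWbot]
          exact le_inf le_rfl (hRA.trans (hAT.trans hTW))
        apply hRW
        rw [hR1]
        exact bot_le
    rw [← hP]
    refine (Nat.card_congr (Equiv.ofBijective (f.subgroupMap P) ⟨?_, f.subgroupMap_surjective P⟩)).symm
    rw [injective_iff_map_eq_one]
    intro x hx
    have h2 : f (x : G) = 1 := congrArg Subtype.val hx
    rw [← MonoidHom.mem_ker, hker] at h2
    have h3 : (x : G) ∈ P ⊓ T := mem_inf.2 ⟨x.2, h2⟩
    rw [h1, mem_bot] at h3
    exact Subtype.ext h3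
  have hUne : W.map f ≠ ⊥ := by
    intro h
    rw [Subgroup.map_eq_bot_iff, hker] at h
    exact hTlt.not_ge h
  have hAmap : A.map f = P.map f ⊔ (P.map f).map (MulAut.conj (f a)).toMonoidHom := by
    have e : (P.map (MulAut.conj a).toMonoidHom).map f = (P.map f).map (MulAut.conj (f a)).toMonoidHom := by
      rw [Subgroup.map_map, Subgroup.map_map]
      congr 1
    rw [← e, ← Subgroup.map_sup, ← hA]
  have hcount : Nat.card ↥(W.map f ⊓ centralizer ((P.map f : Subgroup (G ⧸ T)) : Set (G ⧸ T))) ^ 2 <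
      Nat.card (W.map f) := by
    refine card_sq_lt (q := q) (W.map f) (A.map f) (P.map f) hUn hUc hUq hUne hminU hAU
      (Group.isSolvable_of_surjective (f.subgroupMap_surjective A)) hp (Subgroup.map_mono hPA) hPmap ?_ ?_
    · intro N hPN hN
      rw [hAmap]
      refine sup_le hPN ?_
      rintro _ ⟨x, hx, rfl⟩
      exact (mem_normalizer_iff.1 (hN ⟨a, ha, rfl⟩) x).1 (hPN hx)
    · intro h
      apply hUne
      rw [eq_bot_iff, ← hfix]
      refine le_inf le_rfl ?_
      rintro _ ⟨w, hw, rfl⟩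
      rw [mem_centralizer_iff]
      rintro _ ⟨ρ, hρ, rfl⟩
      exact (mem_centralizer_iff.1 (h ⟨ρ, hRA hρ, rfl⟩) (f w) ⟨w, hw, rfl⟩).symm
  obtain ⟨w', hw', hgen⟩ := CrossAct.exists_generate (X := G ⧸ T) hrq (W.map f) (A.map f) (R.map f) (P.map f)
    hUn hUc hUq hminU hAU hAU' (Subgroup.map_mono hRA)
    (by
      rintro _ ⟨x, hx, rfl⟩
      exact Subgroup.le_normalizer_map f ⟨x, hAR hx, rfl⟩)
    (hR.map f) hfix (f a) ⟨a, ha, rfl⟩ hAmap hcount
  obtain ⟨w, hw, rfl⟩ := hw'
  refine ⟨w, hw, ?_⟩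
  set B : Subgroup G := P ⊔ P.map (MulAut.conj (w * a)).toMonoidHom with hB
  have hBmap : B.map f = ⊤ := by
    rw [← hgen, hB, Subgroup.map_sup]
    congr 1
    rw [Subgroup.map_map, Subgroup.map_map]
    congr 1
  have hBT : B ⊔ T = ⊤ := by
    have := congrArg (Subgroup.comap f) hBmap
    rwa [Subgroup.comap_map_eq, hker, Subgroup.comap_top] at this
  -- `(B ∩ W) T = W`
  have hD : (B ⊓ W) ⊔ T = W := by
    apply le_antisymm (sup_le inf_le_right hTW)
    intro x hx
    have h1 : x ∈ B ⊔ T := by rw [hBT]; exact mem_top x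
    rw [Subgroup.mem_sup_of_normal_right] at h1
    obtain ⟨b, hb, t, ht, rfl⟩ := h1
    have h2 : b ∈ W := by
      have := mul_mem hx (inv_mem (hTW ht))
      rwa [mul_inv_cancel_right] at this
    exact mul_mem ((le_sup_left : B ⊓ W ≤ _) (mem_inf.2 ⟨hb, h2⟩)) ((le_sup_right : T ≤ _) ht)
  have hD' : ((B ⊓ W).subgroupOf W) ⊔ commutator W = ⊤ := by
    apply Subgroup.map_injective W.subtype_injective
    rw [Subgroup.map_sup, subgroupOf_map_subtype, ← hTsub, subgroupOf_map_subtype, inf_eq_left.2 hTW,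
      inf_eq_left.2 (inf_le_right : B ⊓ W ≤ W), hD, ← MonoidHom.range_eq_map, Subgroup.range_subtype]
  have hD2 := SolvableStructure.AbelianSocle.eq_top_of_sup_commutator hD'
  have hWB : W ≤ B := by
    intro x hx
    have h1 : (⟨x, hx⟩ : W) ∈ (B ⊓ W).subgroupOf W := by rw [hD2]; exact mem_top _
    exact (mem_inf.1 (mem_subgroupOf.1 h1)).1
  rw [eq_top_iff, ← hBT]
  exact sup_le le_rfl (hTW.trans hWB)

end Cfsg.Agent.H457.CrossMain
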