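import Cfsg.Agent.H388.EvenFixSylow
import Cfsg.Agent.H457.OutPrime
import Cfsg.Agent.S0308
import Cfsg.Agent.S0309
import Cfsg.Agent.Blocks.SylowIn
import Cfsg.Agent.UGT.LTF.Link

/-!
# Outer automorphisms of groups with a split (B,N)-pair and the prime graph (helper457)

`T` normal in `G` with a split (B,N)-pair, `p` a prime not connected to `2` in `G`: `p ∤ |G : T|`.
-/

set_option autoImplicit false

namespace Cfsg.Agent.H457.OutSplit

open Subgroup Cfsg Cfsg.Agent Cfsg.Agent.H94.PG Cfsg.Agent.H457.OutPrime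
open Cfsg.Agent.FixBN (HasSplit Split)
open Cfsg.Agent.Schreier.BNSch (not_mem_B mem_parabolic_singleton exists_of_mem_parabolic)

/-! ### (B,N)-pairs -/

section BN

variable {K : Type*} [Group K]

/-- elements whose square lies in a subgroup not containing them have even order -/
theorem two_dvd_orderOf {B : Subgroup K} {s : K} (h2 : s ^ 2 ∈ B) (h : s ∉ B) : 2 ∣ orderOf s := by
  by_contra hc
  have hcop : Nat.Coprime 2 (orderOf s) := (Nat.Prime.coprime_iff_not_dvd Nat.prime_two).2 hc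
  obtain ⟨m, hm⟩ := exists_pow_eq_self_of_coprime hcop
  apply h
  rw [← hm]
  exact pow_mem h2 m

theorem exists_involution_mem_zpowers [Finite K] {s : K} (h : 2 ∣ orderOf s) : ∃ i ∈ zpowers s, orderOf i = 2 :=
  ⟨s ^ (orderOf s / 2), pow_mem (mem_zpowers s) _, orderOf_pow_orderOf_div (orderOf_pos s).ne' h⟩

variable [Finite K] {P : Cfsg.BNPair K} {ℓ : ℕ} [hl : Fact ℓ.Prime] {U : Subgroup K}

/-- `U` is a Sylow subgroup -/
theorem eq_sylow (h : Split P ℓ U) (Q : Sylow ℓ K) (hQ : U ≤ Q) : (Q : Subgroup K) = U := by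
  refine Blocks.SylowIn.eq_of_normalizer_inf_le Q.isPGroup' hQ ?_
  intro x hx
  rw [mem_inf, h.normalizer_eq] at hx
  obtain ⟨k, hk⟩ := Q.isPGroup' ⟨x, hx.2⟩
  exact h.mem_of_pow hx.1 (congrArg Subtype.val hk)

theorem ne_bot (h : Split P ℓ U) {s : K} (hs : s ∈ P.S) : U ≠ ⊥ := by
  obtain ⟨V, hV⟩ := h.node s hs
  obtain ⟨u, hu, huV⟩ := hV.ne
  intro hb
  rw [hb, mem_bot] at hu
  exact huV (hu ▸ V.one_mem)

/-- the subgroup of `U` fixed by a node -/
theorem node_normalizes {s : K} {V : Subgroup K} (hs : s ∈ P.S) (hV : Schreier.BNSch.Node P U s V) :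
    s ∈ normalizer (V : Set K) := by
  have h1 := fun v hv => hV.conj_mem (Schreier.BNSch.mem_parabolic_self P s) (v := v) hv
  rw [← inv_mem_iff, mem_normalizer_iff]
  have h2 : V.map (MulAut.conj s⁻¹).toMonoidHom = V := by
    refine Subgroup.eq_of_le_of_card_ge ?_ (le_of_eq (Nat.card_congr (V.equivMapOfInjective
      (MulAut.conj s⁻¹).toMonoidHom (MulAut.conj s⁻¹).injective).toEquiv))
    rintro _ ⟨v, hv, rfl⟩
    simpa [MulAut.conj_apply] using h1 v hv
  intro d
  constructor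
  · intro hd
    simpa using h1 d hd
  · intro hd
    rw [← h2] at hd
    obtain ⟨y, hy, hyd⟩ := hd
    have : y = d := (MulAut.conj s⁻¹).injective hyd
    rwa [← this]

/-- **a prime divisor of `|B|` other than the characteristic**: some involution normalizes a nontrivial `p`-subgroup -/
theorem exists_of_dvd_B (h : Split P ℓ U) (hS : P.S.Nonempty) {p : ℕ} [hp : Fact p.Prime] (hpl : p ≠ ℓ)
    (hd : p ∣ Nat.card P.B) :
    ∃ P₁ : Subgroup K, IsPGroup p P₁ ∧ P₁ ≠ ⊥ ∧ ∃ i ∈ normalizer (P₁ : Set K), orderOf i = 2 := by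
  classical
  set H : Subgroup K := P.B ⊓ P.N with hH
  -- `p ∣ |H|`
  have hdH : p ∣ Nat.card H := by
    have hUB : (U.subgroupOf P.B).Normal := by
      constructor
      intro u hu b
      rw [mem_subgroupOf] at hu ⊢
      exact h.norm b b.2 u hu
    let f : H →* P.B ⧸ U.subgroupOf P.B :=
      (QuotientGroup.mk' (U.subgroupOf P.B)).comp (Subgroup.inclusion inf_le_left)
    have hf : Function.Surjective f := by
      intro q
      obtain ⟨b, rfl⟩ := QuotientGroup.mk'_surjective (U.subgroupOf P.B) q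
      obtain ⟨u, hu, t, ht, hb⟩ := h.cover' b.2
      refine ⟨⟨t, ht⟩, ?_⟩
      change QuotientGroup.mk' (U.subgroupOf P.B) _ = _
      rw [QuotientGroup.mk'_eq_mk']
      have ht' : t ∈ P.B := (mem_inf.1 ht).1
      refine ⟨⟨t⁻¹ * u * t, ?_⟩, ?_, ?_⟩
      · exact mul_mem (mul_mem (inv_mem ht') (h.le hu)) ht'
      · rw [mem_subgroupOf]
        have := h.norm t⁻¹ (inv_mem ht') u hu
        rwa [inv_inv] at this
      · apply Subtype.ext
        change t * (t⁻¹ * u * t) = b
        rw [hb]; group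
    have h1 := Subgroup.card_dvd_of_surjective f hf
    have h2 : Nat.card P.B = Nat.card (P.B ⧸ U.subgroupOf P.B) * Nat.card (U.subgroupOf P.B) :=
      Subgroup.card_eq_card_quotient_mul_card_subgroup _
    have h3 : ¬ p ∣ Nat.card (U.subgroupOf P.B) := by
      rw [Nat.card_congr (subgroupOfEquivOfLe h.le).toEquiv]
      obtain ⟨n, hn⟩ := IsPGroup.iff_card.mp h.isP
      rw [hn]
      intro h4
      exact hpl ((Nat.prime_dvd_prime_iff_eq hp.out hl.out).1 (hp.out.dvd_of_dvd_pow h4))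
    rw [h2, hp.out.dvd_mul] at hd
    exact (hd.resolve_right h3).trans h1
  obtain ⟨s, hs⟩ := hS
  have hsN : s ∈ P.N := P.subset hs
  have hsB : s ∉ P.B := not_mem_B P hs
  -- a Sylow subgroup of `H`, normal in `N`
  have hHN : H ≤ P.N := inf_le_right
  have hnor : (H.subgroupOf P.N).Normal := by
    constructor
    intro t ht n
    rw [mem_subgroupOf] at ht ⊢
    exact mem_inf.2 ⟨P.conj_mem n n.2 t ht, mul_mem (mul_mem n.2 (hHN ht)) (inv_mem n.2)⟩
  obtain ⟨R⟩ : Nonempty (Sylow p (H.subgroupOf P.N)) := inferInstance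
  have hsup := Sylow.normalizer_sup_eq_top R
  set R' : Subgroup P.N := (R : Subgroup (H.subgroupOf P.N)).map (H.subgroupOf P.N).subtype with hR'
  have hRne : (R : Subgroup (H.subgroupOf P.N)) ≠ ⊥ := by
    intro hb
    have h1 : p ∣ Nat.card (H.subgroupOf P.N) := by
      rwa [Nat.card_congr (subgroupOfEquivOfLe hHN).toEquiv]
    have h2 := R.dvd_card_of_dvd_card h1
    rw [hb, Subgroup.card_bot] at h2
    exact hp.out.one_lt.ne' (Nat.dvd_one.1 h2)
  -- `s = n t` with `n` normalizing `R'`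
  have hs' : (⟨s, hsN⟩ : P.N) ∈ normalizer (R' : Set P.N) ⊔ H.subgroupOf P.N := by rw [hsup]; trivial
  rw [Subgroup.mem_sup_of_normal_right] at hs'
  obtain ⟨n, hn, t, ht, hnt⟩ := hs'
  have ht' : (t : K) ∈ H := ht
  have hnt' : (n : K) * t = s := congrArg Subtype.val hnt
  have hnB : (n : K) ∉ P.B := by
    intro hc
    apply hsB
    rw [← hnt']
    exact mul_mem hc (mem_inf.1 ht').1
  have hn2 : (n : K) ^ 2 ∈ P.B := by
    have h1 : s * s ∈ P.B := P.sq_mem s hs
    have h2 : s * (t : K)⁻¹ * s⁻¹ ∈ P.B := P.conj_mem s hsN _ (inv_mem ht')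
    have h3 : (n : K) ^ 2 = (s * (t : K)⁻¹ * s⁻¹) * (s * s) * (t : K)⁻¹ := by
      rw [← hnt', pow_two]; group
    rw [h3]
    exact mul_mem (mul_mem h2 h1) (inv_mem (mem_inf.1 ht').1)
  obtain ⟨i, hi, hio⟩ := exists_involution_mem_zpowers (two_dvd_orderOf hn2 hnB)
  refine ⟨R'.map P.N.subtype, (R.isPGroup'.map _).map _, ?_, i, ?_, hio⟩
  · rw [Ne, Subgroup.map_eq_bot_iff_of_injective _ P.N.subtype_injective,
      Subgroup.map_eq_bot_iff_of_injective _ (H.subgroupOf P.N).subtype_injective]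
    exact hRne
  · have h1 : (n : K) ∈ normalizer ((R'.map P.N.subtype : Subgroup K) : Set K) :=
      Subgroup.le_normalizer_map P.N.subtype ⟨n, hn, rfl⟩
    exact (Subgroup.zpowers_le.2 h1) hi

/-- in characteristic `ℓ`: an involution normalizes a nontrivial `ℓ`-subgroup unless `|B|` is odd and `V = 1` at all nodes -/
theorem cases_char (h : Split P ℓ U) (hS : P.S.Nonempty) :
    (∃ P₁ : Subgroup K, IsPGroup ℓ P₁ ∧ P₁ ≠ ⊥ ∧ ∃ i ∈ normalizer (P₁ : Set K), orderOf i = 2) ∨
      (¬ 2 ∣ Nat.card P.B ∧ ∀ s ∈ P.S, ∀ u ∈ U, s⁻¹ * u * s ∈ P.B → u = 1) := by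
  by_cases h2 : 2 ∣ Nat.card P.B
  · left
    have : Fact (Nat.Prime 2) := ⟨Nat.prime_two⟩
    obtain ⟨i, hi⟩ := exists_prime_orderOf_dvd_card' 2 h2
    obtain ⟨s, hs⟩ := hS
    refine ⟨U, h.isP, ne_bot h hs, i, ?_, by rw [Subgroup.orderOf_coe, hi]⟩
    rw [h.normalizer_eq]
    exact i.2
  · by_cases hV : ∃ s ∈ P.S, ∃ u ∈ U, s⁻¹ * u * s ∈ P.B ∧ u ≠ 1
    · left
      obtain ⟨s, hs, u, hu, hus, hu1⟩ := hV
      obtain ⟨V, hV⟩ := h.node s hs
      have huV := hV.stab u hu hus
      have h3 : s ^ 2 ∈ P.B := by rw [pow_two]; exact P.sq_mem s hs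
      obtain ⟨i, hi, hio⟩ := exists_involution_mem_zpowers (two_dvd_orderOf h3 (not_mem_B P hs))
      refine ⟨V, h.isP.to_le hV.le, fun hb => hu1 (by rwa [hb, mem_bot] at huV), i, ?_, hio⟩
      exact (Subgroup.zpowers_le.2 (node_normalizes hs hV)) hi
    · right
      refine ⟨h2, fun s hs u hu hus => ?_⟩
      by_contra hu1
      exact hV ⟨s, hs, u, hu, hus, hu1⟩

/-- if `V = 1` at all nodes then the rank is one -/
theorem eq_of_trivial_nodes (h : Split P ℓ U) (hV : ∀ s ∈ P.S, ∀ u ∈ U, s⁻¹ * u * s ∈ P.B → u = 1)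
    {s t : K} (hs : s ∈ P.S) (ht : t ∈ P.S) : s = t := by
  classical
  by_contra hst
  have hsN := P.subset hs
  have htN := P.subset ht
  have hsB := not_mem_B P hs
  have htB := not_mem_B P ht
  -- distinct double cosets
  have hne : ∀ n ∈ P.N, ∀ n' ∈ P.N, n⁻¹ * n' ∉ P.B → ∀ g, g ∈ DoubleCoset.doubleCoset n (P.B : Set K) P.B →
      g ∉ DoubleCoset.doubleCoset n' (P.B : Set K) P.B := by
    intro n hn n' hn' hnn g hg hg'
    apply hnn
    rw [← S0309.result P hn hn']
    rw [← DoubleCoset.doubleCoset_eq_of_mem hg, ← DoubleCoset.doubleCoset_eq_of_mem hg']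
  -- `s B t ⊆ B s t B`
  have hprod : ∀ b ∈ P.B, s * b * t ∈ DoubleCoset.doubleCoset (s * t) (P.B : Set K) P.B := by
    intro b hb
    rcases P.mul_mem_union s hs t htN b hb with h1 | h1
    · exact h1
    · exfalso
      rw [DoubleCoset.mem_doubleCoset] at h1
      obtain ⟨x, hx, y, hy, hxy⟩ := h1
      have hmem : s ∈ P.parabolic {t} := by
        have hB := fun z (hz : z ∈ P.B) => Schreier.BNSch.B_le_parabolic P {t} hz
        have ht' := Schreier.BNSch.mem_parabolic_self P t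
        have e : s = x * t * y * t⁻¹ * b⁻¹ := by
          rw [← hxy]; group
        rw [e]
        exact mul_mem (mul_mem (mul_mem (mul_mem (hB x hx) ht') (hB y hy)) (inv_mem ht')) (inv_mem (hB b hb))
      rcases mem_parabolic_singleton P ht hmem with h2 | ⟨b1, hb1, b2, hb2, h2⟩
      · exact hsB h2
      · have h3 : s ∈ DoubleCoset.doubleCoset t (P.B : Set K) P.B := by
          rw [DoubleCoset.mem_doubleCoset]
          exact ⟨b1, hb1, b2, hb2, h2⟩
        have h4 : s ∈ DoubleCoset.doubleCoset s (P.B : Set K) P.B := by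
          rw [DoubleCoset.mem_doubleCoset]
          exact ⟨1, P.B.one_mem, 1, P.B.one_mem, by group⟩
        refine hne s hsN t htN (fun h5 => hst (P.inj s hs t ht h5)) s h4 h3
  have hstt : (s * t)⁻¹ * t ∉ P.B := by
    intro h1
    have h2 : (s * t)⁻¹ * t ∈ P.B ⊓ P.N :=
      mem_inf.2 ⟨h1, mul_mem (inv_mem (mul_mem hsN htN)) htN⟩
    have h3 := P.conj_mem t htN _ h2
    have h4 : t * ((s * t)⁻¹ * t) * t⁻¹ = s⁻¹ := by group
    rw [h4] at h3
    exact hsB (by simpa using inv_mem h3)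
  -- cosets in `B s t B`
  have hcos : ∀ g ∈ DoubleCoset.doubleCoset (s * t) (P.B : Set K) P.B, ∃ u : U, ((u : K) * (s * t))⁻¹ * g ∈ P.B := by
    intro g hg
    rw [DoubleCoset.mem_doubleCoset] at hg
    obtain ⟨x, hx, y, hy, rfl⟩ := hg
    obtain ⟨u, hu, r, hr, rfl⟩ := h.cover' hx
    refine ⟨⟨u, hu⟩, ?_⟩
    have h1 : (s * t)⁻¹ * r * (s * t)⁻¹⁻¹ ∈ P.B :=
      P.conj_mem _ (inv_mem (mul_mem hsN htN)) r hr
    have h2 : (u * (s * t))⁻¹ * (u * r * (s * t) * y) = ((s * t)⁻¹ * r * (s * t)⁻¹⁻¹) * y := by group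
    change (u * (s * t))⁻¹ * (u * r * (s * t) * y) ∈ P.B
    rw [h2]
    exact mul_mem h1 hy
  have hmap : ∀ q : U × U, ∃ u : U, ((u : K) * (s * t))⁻¹ * ((q.1 : K) * s * q.2 * t) ∈ P.B := by
    intro q
    apply hcos
    have h1 := hprod q.2 (h.le q.2.2)
    rw [DoubleCoset.mem_doubleCoset] at h1 ⊢
    obtain ⟨x, hx, y, hy, hxy⟩ := h1
    refine ⟨q.1 * x, mul_mem (h.le q.1.2) hx, y, hy, ?_⟩
    calc (q.1 : K) * s * q.2 * t = q.1 * (s * q.2 * t) := by group
      _ = q.1 * (x * (s * t) * y) := by rw [hxy]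
      _ = q.1 * x * (s * t) * y := by group
  choose f hf using hmap
  have hinj : Function.Injective f := by
    rintro ⟨x, y⟩ ⟨x', y'⟩ hxy
    have h1 := hf (x, y)
    have h2 := hf (x', y')
    rw [hxy] at h1
    have h3 := mul_mem (inv_mem h2) h1
    simp only at h3
    set z : K := (x' : K)⁻¹ * x with hz
    have hzU : z ∈ U := mul_mem (inv_mem x'.2) x.2
    have h4 : t⁻¹ * (y' : K)⁻¹ * (s⁻¹ * z * s) * y * t ∈ P.B := by
      have e : t⁻¹ * (y' : K)⁻¹ * (s⁻¹ * z * s) * y * t =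
          ((((f (x', y')) : K) * (s * t))⁻¹ * ((x' : K) * s * y' * t))⁻¹ *
            ((((f (x', y')) : K) * (s * t))⁻¹ * ((x : K) * s * y * t)) := by
        rw [hz]; group
      rw [e]
      exact h3
    have hz1 : z = 1 := by
      by_contra hz1
      have h5 : s⁻¹ * z * s ∉ P.B := fun h5 => hz1 (hV s hs z hzU h5)
      have h6 : s⁻¹ * z * s ∈ P.parabolic {s} := by
        have hs' := Schreier.BNSch.mem_parabolic_self P s
        exact mul_mem (mul_mem (inv_mem hs') (Schreier.BNSch.B_le_parabolic P {s} (h.le hzU))) hs'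
      obtain ⟨u1, hu1, b, hb, h7⟩ := exists_of_mem_parabolic P h.le h.cover hs h6 h5
      have h8 : s * (b * y) * t ∈ DoubleCoset.doubleCoset (s * t) (P.B : Set K) P.B :=
        hprod _ (mul_mem hb (h.le y.2))
      have h9 : s⁻¹ * z * s * y * t ∈ DoubleCoset.doubleCoset (s * t) (P.B : Set K) P.B := by
        rw [DoubleCoset.mem_doubleCoset] at h8 ⊢
        obtain ⟨x1, hx1, y1, hy1, hxy1⟩ := h8
        refine ⟨u1 * x1, mul_mem (h.le hu1) hx1, y1, hy1, ?_⟩
        rw [h7]
        calc u1 * s * b * y * t = u1 * (s * (b * y) * t) := by group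
          _ = u1 * (x1 * (s * t) * y1) := by rw [hxy1]
          _ = u1 * x1 * (s * t) * y1 := by group
      refine hne (s * t) (mul_mem hsN htN) t htN hstt _ h9 ?_
      rw [DoubleCoset.mem_doubleCoset]
      exact ⟨y', h.le y'.2, _, h4, by group⟩
    have hxx : x = x' := by
      apply Subtype.ext
      rw [hz, inv_mul_eq_one] at hz1
      exact hz1.symm
    subst hxx
    have h5 : t⁻¹ * ((y' : K)⁻¹ * y) * t ∈ P.B := by
      rw [hz1] at h4
      have e : t⁻¹ * ((y' : K)⁻¹ * y) * t = t⁻¹ * (y' : K)⁻¹ * (s⁻¹ * 1 * s) * y * t := by group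
      rw [e]; exact h4
    have h6 := hV t ht _ (mul_mem (inv_mem y'.2) y.2) h5
    rw [inv_mul_eq_one] at h6
    rw [Prod.mk.injEq]
    exact ⟨rfl, (Subtype.ext h6).symm⟩
  have hcard := Nat.card_le_card_of_injective f hinj
  rw [Nat.card_prod] at hcard
  have h1 : 1 < Nat.card U := by
    by_contra hc
    have h2 : Nat.card U = 1 := by
      have : 0 < Nat.card U := Nat.card_pos
      omega
    exact ne_bot h hs (Subgroup.card_eq_one.1 h2)
  nlinarith

/-- rank one, `|B|` odd, `V = 1`: all involutions are conjugate to elements of `N` -/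
theorem exists_conj_mem_N (h : Split P ℓ U) (hV : ∀ s ∈ P.S, ∀ u ∈ U, s⁻¹ * u * s ∈ P.B → u = 1)
    (h2 : ¬ 2 ∣ Nat.card P.B) {s : K} (hs : s ∈ P.S) {i : K} (hi : orderOf i = 2) :
    ∃ g : K, ∃ r ∈ P.B ⊓ P.N, g * i * g⁻¹ = s * r := by
  have hsN := P.subset hs
  have hii : i * i = 1 := by rw [← pow_two, ← hi, pow_orderOf_eq_one]
  -- `K = B ∪ B s B`
  have htop : P.parabolic {s} = ⊤ := by
    have hS : P.S = {s} := by
      ext t
      rw [Set.mem_singleton_iff]
      exact ⟨fun ht => eq_of_trivial_nodes h hV ht hs, fun ht => ht ▸ hs⟩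
    rw [eq_top_iff, ← P.sup_eq_top]
    refine sup_le (Schreier.BNSch.B_le_parabolic P {s}) ?_
    rw [← P.closure_sup]
    refine sup_le ?_ (inf_le_left.trans (Schreier.BNSch.B_le_parabolic P {s}))
    rw [hS]
    exact le_sup_right
  have hodd : ∀ b ∈ P.B, orderOf b ≠ 2 := by
    intro b hb hb2
    apply h2
    have := orderOf_dvd_natCard (⟨b, hb⟩ : P.B)
    rwa [Subgroup.orderOf_mk, hb2] at this
  have hiB : i ∉ P.B := fun hc => hodd i hc hi
  obtain ⟨u, hu, b, hb, rfl⟩ := exists_of_mem_parabolic P h.le h.cover hs (g := i) (by rw [htop]; trivial) hiB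
  have hbu : b * u ∈ P.B := mul_mem hb (h.le hu)
  obtain ⟨v, hv, r, hr, hvr⟩ := h.cover' hbu
  have hrB := (mem_inf.1 hr).1
  -- `(s (b u))² = 1`
  have h3 : s * (b * u) * (s * (b * u)) = 1 := by
    have e : s * (b * u) * (s * (b * u)) = u⁻¹ * ((u * s * b) * (u * s * b)) * u := by group
    rw [e, hii]; group
  rw [hvr] at h3
  have hss : s * s ∈ P.B := P.sq_mem s hs
  have h4 : s⁻¹ * v * s ∈ P.B := by
    -- `s v s = (r s v r)⁻¹`-like computation
    have h5 : s * v * s⁻¹ = (v * r)⁻¹ * (s * s)⁻¹ * (s * r⁻¹ * s⁻¹) := by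
      have h6 : s * (v * r) * s = (v * r)⁻¹ := by
        rw [eq_inv_iff_mul_eq_one]
        calc s * (v * r) * s * (v * r) = s * (v * r) * (s * (v * r)) := by group
          _ = 1 := h3
      have h7 : s * v * s⁻¹ = (s * (v * r) * s) * (s * s)⁻¹ * (s * r⁻¹ * s⁻¹) := by group
      rw [h7, h6]
    have h6 : s * r⁻¹ * s⁻¹ ∈ P.B := P.conj_mem s hsN _ (inv_mem hr)
    have h7 : s * v * s⁻¹ ∈ P.B := by
      rw [h5]
      exact mul_mem (mul_mem (inv_mem (mul_mem (h.le hv) hrB)) (inv_mem hss)) h6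
    have h8 : s⁻¹ * v * s = (s * s)⁻¹ * (s * v * s⁻¹) * (s * s) := by group
    rw [h8]
    exact mul_mem (mul_mem (inv_mem hss) h7) hss
  have hv1 := hV s hs v hv h4
  refine ⟨u⁻¹, r, hr, ?_⟩
  have e : u⁻¹ * (u * s * b) * u⁻¹⁻¹ = s * (b * u) := by group
  rw [e, hvr, hv1, one_mul]

/-- rank one, `|B|` odd, `V = 1`: one class of involutions -/
theorem isConj_involutions (h : Split P ℓ U) (hV : ∀ s ∈ P.S, ∀ u ∈ U, s⁻¹ * u * s ∈ P.B → u = 1)
    (h2 : ¬ 2 ∣ Nat.card P.B) (hS : P.S.Nonempty) {i j : K} (hi : orderOf i = 2) (hj : orderOf j = 2) :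
    IsConj i j := by
  obtain ⟨s, hs⟩ := hS
  have hsN := P.subset hs
  obtain ⟨g, r, hr, hg⟩ := exists_conj_mem_N h hV h2 hs hi
  obtain ⟨g', r', hr', hg'⟩ := exists_conj_mem_N h hV h2 hs hj
  have hsq : ∀ (g x : K), orderOf x = 2 → (g * x * g⁻¹) * (g * x * g⁻¹) = 1 := by
    intro g x hx
    have hxx : x * x = 1 := by rw [← pow_two, ← hx, pow_orderOf_eq_one]
    have e : (g * x * g⁻¹) * (g * x * g⁻¹) = g * (x * x) * g⁻¹ := by group
    rw [e, hxx]; group
  have h3 := hsq g i hi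
  have h4 := hsq g' j hj
  rw [hg] at h3
  rw [hg'] at h4
  -- `(s r) (s r') ∈ B`
  have h5 : (s * r) * (s * r') ∈ P.B := by
    have h6 : s * r * s⁻¹ ∈ P.B := P.conj_mem s hsN _ hr
    have e : (s * r) * (s * r') = (s * r * s⁻¹) * (s * s) * r' := by group
    rw [e]
    exact mul_mem (mul_mem h6 (P.sq_mem s hs)) (mem_inf.1 hr').1
  have h6 : Odd (orderOf ((s * r) * (s * r'))) := by
    rw [← Nat.not_even_iff_odd, even_iff_two_dvd]
    intro h7
    have h8 := orderOf_dvd_natCard (⟨_, h5⟩ : P.B)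
    rw [Subgroup.orderOf_mk] at h8
    exact h2 (h7.trans h8)
  have h7 := UGT.LTF.Link.isConj_of_odd h3 h4 h6 (pow_orderOf_eq_one _)
  have h8 : IsConj i (s * r) := isConj_iff.2 ⟨g, hg⟩
  have h9 : IsConj j (s * r') := isConj_iff.2 ⟨g', hg'⟩
  exact (h8.trans h7.symm).trans h9.symm

end BN

/-! ### The ambient group -/

section Main

variable {G : Type*} [Group G] [Finite G]

/-- an involution of `T` normalizing a nontrivial `p`-subgroup -/
theorem not_dvd_index_of_exists (T : Subgroup G) (hT : T.Normal) {p : ℕ} [hp : Fact p.Prime] (hn : ¬ Conn G p 2)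
    (h : ∃ P₁ : Subgroup T, IsPGroup p P₁ ∧ P₁ ≠ ⊥ ∧ ∃ i ∈ normalizer (P₁ : Set T), orderOf i = 2) :
    ¬ p ∣ T.index := by
  obtain ⟨P₁, hP₁, hne, i, hi, hio⟩ := h
  refine not_dvd_index_of_normalizing T hT hn (P₁.map T.subtype) (Subgroup.map_subtype_le _) (hP₁.map _) ?_
    i.2 (by rw [Subgroup.orderOf_coe, hio]) ?_
  · rw [Ne, Subgroup.map_eq_bot_iff_of_injective _ T.subtype_injective]
    exact hne
  · exact Subgroup.le_normalizer_map T.subtype ⟨i, hi, rfl⟩

/-- one class of involutions in the normal subgroup `T` of even order -/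
theorem not_dvd_index_of_isConj (T : Subgroup G) (hT : T.Normal) {p : ℕ} [hp : Fact p.Prime] (hn : ¬ Conn G p 2)
    (h2 : ∃ i : T, orderOf i = 2) (h : ∀ i j : T, orderOf i = 2 → orderOf j = 2 → IsConj i j) :
    ¬ p ∣ T.index := by
  classical
  intro hd
  obtain ⟨i, hi⟩ := h2
  set C : Subgroup G := centralizer ({(i : G)} : Set G) with hC
  have hTC : T ⊔ C = ⊤ := by
    rw [eq_top_iff]
    intro g _
    have h1 : orderOf (⟨g * i * g⁻¹, hT.conj_mem _ i.2 g⟩ : T) = 2 := by
      rw [← Subgroup.orderOf_coe]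
      change orderOf (g * i * g⁻¹) = 2
      have := orderOf_injective (MulAut.conj g).toMonoidHom (MulAut.conj g).injective (i : G)
      rw [← hi, ← Subgroup.orderOf_coe]
      simpa using this
    obtain ⟨t, ht⟩ := isConj_iff.1 (h i _ hi h1)
    have ht' : (t : G) * i * (t : G)⁻¹ = g * i * g⁻¹ := congrArg Subtype.val ht
    have e : g = t * ((t : G)⁻¹ * g) := by group
    rw [e]
    refine mul_mem (Subgroup.mem_sup_left t.2) (Subgroup.mem_sup_right ?_)
    rw [hC, mem_centralizer_singleton_iff]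
    calc (t : G)⁻¹ * g * i = (t : G)⁻¹ * (g * i * g⁻¹) * g := by group
      _ = (t : G)⁻¹ * (t * i * (t : G)⁻¹) * g := by rw [ht']
      _ = i * ((t : G)⁻¹ * g) := by group
  have hidx : T.relIndex C = T.index := by
    rw [← Subgroup.relIndex_sup_right, sup_comm, hTC, Subgroup.relIndex_top_right]
  have h3 : p ∣ Nat.card C := by
    rw [← hidx] at hd
    exact hd.trans (Subgroup.relIndex_dvd_card T C)
  obtain ⟨y, hy⟩ := exists_prime_orderOf_dvd_card' p h3
  apply hn
  have hyi : Commute ((y : G)) i := mem_centralizer_singleton_iff.1 y.2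
  exact conn_of_dvd hp.out Nat.prime_two hyi (by rw [Subgroup.orderOf_coe, hy]) (by rw [Subgroup.orderOf_coe, hi])

/-- **Groups with a split (B,N)-pair: primes of an odd component do not divide `|G : T|`.** -/
theorem not_dvd_index_of_split (T : Subgroup G) (hT : T.Normal) {p : ℕ} [hp : Fact p.Prime] (hn : ¬ Conn G p 2)
    {ℓ : ℕ} [hl : Fact ℓ.Prime] (h : HasSplit ℓ T) : ¬ p ∣ T.index := by
  classical
  intro hd
  have h0 := h
  obtain ⟨P, U, hS, hU⟩ := h0
  obtain ⟨Q, hQ⟩ := hU.isP.exists_le_sylow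
  have hQU := eq_sylow hU Q hQ
  by_cases hB : p ∣ Nat.card (normalizer ((Q : Subgroup T) : Set T))
  · -- an involution normalizes a `p`-subgroup or there is one class of involutions
    rw [hQU, hU.normalizer_eq] at hB
    by_cases hpl : p = ℓ
    · subst hpl
      rcases cases_char hU hS with h1 | ⟨h1, h2⟩
      · exact not_dvd_index_of_exists T hT hn h1 hd
      · obtain ⟨s, hs⟩ := id hS
        have h3 : s ^ 2 ∈ P.B := by rw [pow_two]; exact P.sq_mem s hs
        obtain ⟨i, -, hi⟩ := exists_involution_mem_zpowers (two_dvd_orderOf h3 (not_mem_B P hs))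
        exact not_dvd_index_of_isConj T hT hn ⟨i, hi⟩
          (fun i j hi hj => isConj_involutions hU h2 h1 hS hi hj) hd
    · exact not_dvd_index_of_exists T hT hn (exists_of_dvd_B hU hS hpl hB) hd
  · -- an element of order `p` normalizes `Q`
    set Q' : Subgroup G := (Q : Subgroup T).map T.subtype with hQ'
    set M : Subgroup G := normalizer (Q' : Set G) with hM
    have hTM : T ⊔ M = ⊤ := by
      have := Sylow.normalizer_sup_eq_top Q
      rw [sup_comm] at this
      exact this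
    have hidx : T.relIndex M = T.index := by
      rw [← Subgroup.relIndex_sup_right, sup_comm, hTM, Subgroup.relIndex_top_right]
    have h3 : p ∣ Nat.card M := by
      rw [← hidx] at hd
      exact hd.trans (Subgroup.relIndex_dvd_card T M)
    obtain ⟨x, hx⟩ := exists_prime_orderOf_dvd_card' p h3
    have hxo : orderOf (x : G) = p := by rw [Subgroup.orderOf_coe, hx]
    have hx1 : (MulAut.conjNormal (x : G) : MulAut T) ^ p = 1 := by
      rw [← map_pow, ← hxo, pow_orderOf_eq_one, map_one]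
    have hxQ : ∀ u ∈ Q, (MulAut.conjNormal (x : G) : MulAut T) u ∈ Q := by
      intro u hu
      have h4 : (x : G) * u * (x : G)⁻¹ ∈ Q' := (mem_normalizer_iff.1 x.2 u).1 ⟨u, hu, rfl⟩
      obtain ⟨v, hv, hvx⟩ := h4
      have h5 : (MulAut.conjNormal (x : G) : MulAut T) u = v := by
        apply Subtype.ext
        rw [MulAut.conjNormal_apply]
        exact hvx.symm
      rw [h5]
      exact hv
    obtain ⟨g, hg, hxg⟩ := H388.EvenFix.exists_involution_of_sylow h _ hx1 Q hxQ hB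
    apply hn
    have h6 : (x : G) * g * (x : G)⁻¹ = g := by
      rw [← MulAut.conjNormal_apply, hxg]
    have h7 : Commute (x : G) (g : G) := by
      rw [commute_iff_eq]
      calc (x : G) * g = (x : G) * g * (x : G)⁻¹ * x := by group
        _ = g * x := by rw [h6]
    exact conn_of_dvd hp.out Nat.prime_two h7 (by rw [hxo]) (by rw [Subgroup.orderOf_coe, hg])

end Main

end Cfsg.Agent.H457.OutSplit
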