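import Cfsg.Agent.H94.PrimeGraph
import Cfsg.Agent.OddOrderLocal.HallPi
import Cfsg.Agent.Lib.LocalCore
import Cfsg.Agent.S0041
import Cfsg.Agent.S0043

/-!
# Lucido's three primes lemma (helper457)

In a finite solvable group, of any three prime divisors of the order two are adjacent in the prime graph.
Also: adjacency lifts from quotients.
-/

set_option autoImplicit false

namespace Cfsg.Agent.H457.ThreePrimes

open Subgroup Cfsg Cfsg.Agent Cfsg.Agent.H94.PG

/-- adjacency lifts from a homomorphic image -/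
theorem adj_of_surjective {G Q : Type*} [Group G] [Finite G] [Group Q] (f : G →* Q) (hf : Function.Surjective f)
    {p q : ℕ} (h : Adj Q p q) : Adj G p q := by
  obtain ⟨hp, hq, hne, x, y, hx, hy, hc⟩ := h
  have hcop : (orderOf x).Coprime (orderOf y) := by
    rw [hx, hy]; exact (Nat.coprime_primes hp hq).2 hne
  have hxy : orderOf (x * y) = p * q := by rw [hc.orderOf_mul_eq_mul_orderOf_of_coprime hcop, hx, hy]
  obtain ⟨g, hg⟩ := hf (x * y)
  have h1 : p * q ∣ orderOf g := by rw [← hxy, ← hg]; exact orderOf_map_dvd f g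
  exact adj_of_dvd hp hq hne (Commute.refl g) ((dvd_mul_right p q).trans h1) ((dvd_mul_left q p).trans h1)
    (orderOf_pos g).ne' (orderOf_pos g).ne'

theorem conn_of_surjective {G Q : Type*} [Group G] [Finite G] [Group Q] (f : G →* Q) (hf : Function.Surjective f)
    {p q : ℕ} (h : Conn Q p q) : Conn G p q := by
  unfold Conn at *
  induction h with
  | refl => exact Relation.ReflTransGen.refl
  | tail _ hbc ih => exact Relation.ReflTransGen.tail ih (adj_of_surjective f hf hbc)

theorem Adj.of_subgroup {G : Type*} [Group G] {H : Subgroup G} {p q : ℕ} (h : Adj H p q) : Adj G p q :=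
  h.map H.subtype H.subtype_injective

/-- `K` is a `{p, q}`-group acting without fixed points on the abelian group `N ≠ 1`: then `p`, `q` are adjacent -/
theorem adj_of_fpf {G : Type*} [Group G] [Finite G] [Group.IsSolvable G] (N K : Subgroup G) [IsMulCommutative N]
    (hN : N ≠ ⊥) (hKN : K ≤ normalizer (N : Set G))
    (hfpf : ∀ a ∈ K, a ≠ 1 → N ⊓ centralizer {a} = ⊥) {p q : ℕ} (hp : p.Prime) (hq : q.Prime) (hne : p ≠ q)
    (hpK : p ∣ Nat.card K) (hqK : q ∣ Nat.card K) (hpq : ∀ r : ℕ, r.Prime → r ∣ Nat.card K → r = p ∨ r = q) :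
    Adj G p q := by
  classical
  have hKne : Nontrivial K := by
    rw [← Finite.one_lt_card_iff_nontrivial]
    exact lt_of_lt_of_le hp.one_lt (Nat.le_of_dvd Nat.card_pos hpK)
  -- a minimal normal subgroup of `K`
  obtain ⟨M, hM, hMmin⟩ := (Set.toFinite {M : Subgroup K | M.Normal ∧ M ≠ ⊥}).exists_minimal
    ⟨⊤, inferInstance, top_ne_bot⟩
  have hMn : M.Normal := hM.1
  obtain ⟨hMc, t, ht, hMt⟩ := S0043.result M hM.2 (fun L hL hLM => by
    by_cases h : L = ⊥
    · exact Or.inl h
    · exact Or.inr (le_antisymm hLM (hMmin ⟨hL, h⟩ hLM)))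
  -- `M` as a subgroup of `G`
  have hMcyc : IsCyclic (M.map K.subtype : Subgroup G) := by
    refine S0041.result (M.map K.subtype) N hN ((map_subtype_le M).trans hKN)
      (fun a ha ha1 => hfpf a (map_subtype_le M ha) ha1) (Or.inl ?_)
    rw [isMulCommutative_iff]
    rintro ⟨_, ⟨x, hx, rfl⟩⟩ ⟨_, ⟨y, hy, rfl⟩⟩
    have h1 := (isMulCommutative_iff.1 hMc) ⟨x, hx⟩ ⟨y, hy⟩
    have h2 : x * y = y * x := congrArg Subtype.val h1
    have h3 : (x : G) * y = y * x := congrArg Subtype.val h2
    exact Subtype.ext h3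
  have hMcard : Nat.card M = t := by
    have h0 : Nat.card M = Nat.card (M.map K.subtype : Subgroup G) :=
      (card_map_of_injective K.subtype_injective).symm
    obtain ⟨g, hg⟩ := hMcyc.exists_generator
    have h1 : orderOf g = Nat.card (M.map K.subtype : Subgroup G) := orderOf_eq_card_of_forall_mem_zpowers hg
    have h2 : g ^ t = 1 := by
      obtain ⟨x, hx, hxg⟩ := g.2
      apply Subtype.ext
      rw [Subgroup.coe_pow, ← hxg, ← map_pow, hMt x hx, map_one]
      rfl
    have h3 : orderOf g ∣ t := orderOf_dvd_of_pow_eq_one h2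
    rcases (Nat.dvd_prime ht).1 h3 with h4 | h4
    · exfalso
      rw [h1, ← h0] at h4
      exact hM.2 (Subgroup.card_eq_one.1 h4)
    · rw [h0, ← h1, h4]
  have htK : t ∣ Nat.card K := by rw [← hMcard]; exact card_subgroup_dvd_card M
  -- WLOG
  have key : ∀ u : ℕ, u.Prime → u ∣ Nat.card K → u ≠ t → Adj G t u := by
    intro u hu huK hut
    have := Fact.mk hu
    obtain ⟨y, hy⟩ := exists_prime_orderOf_dvd_card' u huK
    -- the subgroup `M ⟨y⟩` of order `t u`
    set L : Subgroup K := M ⊔ zpowers y with hL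
    have hcop : (Nat.card M).Coprime (Nat.card (zpowers y)) := by
      rw [hMcard, Nat.card_zpowers, hy]
      exact (Nat.coprime_primes ht hu).2 hut.symm
    have hLcard : Nat.card L = t * u := by
      have h1 := Lib.LocalCore.card_sup_of_coprime (zpowers y) M hcop.symm
      rw [sup_comm, Nat.card_zpowers, hy, hMcard] at h1
      rw [hL, h1, mul_comm]
    have hLc : Nat.card (L.map K.subtype : Subgroup G) = t * u := by
      rw [card_map_of_injective K.subtype_injective, hLcard]
    have hLcyc : IsCyclic (L.map K.subtype : Subgroup G) :=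
      S0041.result (L.map K.subtype) N hN ((map_subtype_le L).trans hKN)
        (fun a ha ha1 => hfpf a (map_subtype_le L ha) ha1) (Or.inr ⟨t, u, ht, hu, hLc⟩)
    obtain ⟨g, hg⟩ := hLcyc.exists_generator
    have h1 : orderOf g = t * u := by rw [orderOf_eq_card_of_forall_mem_zpowers hg, hLc]
    have h2 : orderOf (g : G) = t * u := by rw [Subgroup.orderOf_coe, h1]
    exact adj_of_dvd ht hu hut.symm (Commute.refl (g : G)) (by rw [h2]; exact dvd_mul_right _ _)
      (by rw [h2]; exact dvd_mul_left _ _) (orderOf_pos _).ne' (orderOf_pos _).ne'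
  rcases hpq t ht htK with rfl | rfl
  · exact key q hq hqK hne.symm
  · exact (key p hp hpK hne).symm

/-- **Lucido's three primes lemma**, for `{p, q, r}`-groups, by induction -/
theorem aux (n : ℕ) : ∀ {G : Type*} [Group G] [Finite G] [Group.IsSolvable G], Nat.card G = n →
    ∀ {p q r : ℕ}, p.Prime → q.Prime → r.Prime → p ≠ q → q ≠ r → p ≠ r → p ∣ Nat.card G → q ∣ Nat.card G →
      r ∣ Nat.card G → (∀ s : ℕ, s.Prime → s ∣ Nat.card G → s = p ∨ s = q ∨ s = r) →
      Adj G p q ∨ Adj G q r ∨ Adj G p r := by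
  induction n using Nat.strong_induction_on with
  | _ n ih =>
  intro G _ _ _ hn p q r hp hq hr hpq hqr hpr hpG hqG hrG hall
  classical
  have hnt : Nontrivial G := by
    rw [← Finite.one_lt_card_iff_nontrivial]
    exact lt_of_lt_of_le hp.one_lt (Nat.le_of_dvd Nat.card_pos hpG)
  obtain ⟨N, hN, hNmin⟩ := (Set.toFinite {M : Subgroup G | M.Normal ∧ M ≠ ⊥}).exists_minimal
    ⟨⊤, inferInstance, top_ne_bot⟩
  have hNn : N.Normal := hN.1
  obtain ⟨hNc, t, ht, hNt⟩ := S0043.result N hN.2 (fun L hL hLM => by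
    by_cases h : L = ⊥
    · exact Or.inl h
    · exact Or.inr (le_antisymm hLM (hNmin ⟨hL, h⟩ hLM)))
  have hft := Fact.mk ht
  have hNp : IsPGroup t N := by
    intro x
    exact ⟨1, by rw [pow_one]; exact Subtype.ext (hNt x x.2)⟩
  obtain ⟨k, hk⟩ := IsPGroup.iff_card.mp hNp
  have hk0 : k ≠ 0 := by
    rintro rfl
    rw [pow_zero] at hk
    exact hN.2 (Subgroup.card_eq_one.1 hk)
  have htN : t ∣ Nat.card N := by rw [hk]; exact dvd_pow_self t hk0
  have hcard : Nat.card G = Nat.card N * Nat.card (G ⧸ N) := by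
    rw [← Subgroup.index_eq_card, Subgroup.card_mul_index]
  have htG : t ∣ Nat.card G := htN.trans (card_subgroup_dvd_card N)
  -- primes different from `t` divide `|G/N|`
  have hdvd : ∀ s : ℕ, s.Prime → s ≠ t → s ∣ Nat.card G → s ∣ Nat.card (G ⧸ N) := by
    intro s hs hst hsG
    rw [hcard, hk] at hsG
    rcases hs.dvd_mul.1 hsG with h | h
    · exact absurd ((Nat.prime_dvd_prime_iff_eq hs ht).1 (hs.dvd_of_dvd_pow h)) hst
    · exact h
  have hsolQ : Group.IsSolvable (G ⧸ N) := inferInstance
  by_cases htQ : t ∣ Nat.card (G ⧸ N)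
  · -- induction
    have hlt : Nat.card (G ⧸ N) < n := by
      rw [← hn, hcard]
      have h1 : 1 < Nat.card N := by rw [hk]; exact Nat.one_lt_pow hk0 ht.one_lt
      have h2 : 0 < Nat.card (G ⧸ N) := Nat.card_pos
      nlinarith
    have hd : ∀ s : ℕ, s.Prime → s ∣ Nat.card G → s ∣ Nat.card (G ⧸ N) := by
      intro s hs hsG
      by_cases hst : s = t
      · rw [hst]; exact htQ
      · exact hdvd s hs hst hsG
    have h3 := ih _ hlt (G := G ⧸ N) rfl hp hq hr hpq hqr hpr (hd p hp hpG) (hd q hq hqG) (hd r hr hrG)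
      (fun s hs hsQ => hall s hs (hsQ.trans (by rw [hcard]; exact dvd_mul_left _ _)))
    have hf : Function.Surjective (QuotientGroup.mk' N) := QuotientGroup.mk'_surjective N
    rcases h3 with h | h | h
    · exact Or.inl (adj_of_surjective _ hf h)
    · exact Or.inr (Or.inl (adj_of_surjective _ hf h))
    · exact Or.inr (Or.inr (adj_of_surjective _ hf h))
  · -- `N` is a Sylow `t`-subgroup, with a complement `K`
    have hcop : Nat.Coprime (Nat.card N) N.index := by
      rw [hk, Subgroup.index_eq_card]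
      exact Nat.Coprime.pow_left k ((Nat.Prime.coprime_iff_not_dvd ht).2 htQ)
    obtain ⟨K, hK⟩ := Subgroup.exists_right_complement'_of_coprime hcop
    have hKcard : Nat.card K = Nat.card (G ⧸ N) := by
      have h1 := hK.card_mul_card
      rw [hcard] at h1
      exact Nat.eq_of_mul_eq_mul_left Nat.card_pos h1
    -- the two other primes
    have main : ∀ u v : ℕ, u.Prime → v.Prime → u ≠ v → u ≠ t → v ≠ t → u ∣ Nat.card G → v ∣ Nat.card G →
        (∀ s : ℕ, s.Prime → s ∣ Nat.card G → s = t ∨ s = u ∨ s = v) →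
        Adj G u v ∨ Adj G u t ∨ Adj G v t := by
      intro u v hu hv huv hut hvt huG hvG hall'
      by_cases hfpf : ∀ a ∈ K, a ≠ 1 → N ⊓ centralizer {a} = ⊥
      · left
        refine adj_of_fpf N K hN.2 le_normalizer_of_normal hfpf hu hv huv ?_ ?_ ?_
        · rw [hKcard]; exact hdvd u hu hut huG
        · rw [hKcard]; exact hdvd v hv hvt hvG
        · intro s hs hsK
          have hsQ : s ∣ Nat.card (G ⧸ N) := by rw [← hKcard]; exact hsK
          rcases hall' s hs (hsQ.trans (by rw [hcard]; exact dvd_mul_left _ _)) with h | h | h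
          · exact absurd (h ▸ hsQ) htQ
          · exact Or.inl h
          · exact Or.inr h
      · push Not at hfpf
        obtain ⟨a, haK, ha1, hne⟩ := hfpf
        obtain ⟨x, hx1⟩ := Subgroup.ne_bot_iff_exists_ne_one.1 hne
        obtain ⟨hxN, hxa⟩ := mem_inf.1 x.2
        have hx1' : (x : G) ≠ 1 := fun h => hx1 (Subtype.ext h)
        have hxo : orderOf (x : G) = t := by
          apply orderOf_eq_prime (hNt x hxN) hx1'
        have hc : Commute a (x : G) := (mem_centralizer_singleton_iff.1 hxa).symm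
        obtain ⟨s, hs, hsa⟩ := exists_prime_dvd ha1
        have hsK : s ∣ Nat.card K := by
          have h1 := orderOf_dvd_natCard (⟨a, haK⟩ : K)
          rw [Subgroup.orderOf_mk] at h1
          exact hsa.trans h1
        have hsQ : s ∣ Nat.card (G ⧸ N) := by rw [← hKcard]; exact hsK
        have hst : s ≠ t := fun h => htQ (h ▸ hsQ)
        have hadj : Adj G s t := adj_of_dvd hs ht hst hc hsa (by rw [hxo]) (orderOf_pos a).ne' (orderOf_pos _).ne'
        rcases hall' s hs (hsQ.trans (by rw [hcard]; exact dvd_mul_left _ _)) with h | h | h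
        · exact absurd h hst
        · exact Or.inr (Or.inl (h ▸ hadj))
        · exact Or.inr (Or.inr (h ▸ hadj))
    rcases hall t ht htG with rfl | rfl | rfl
    · rcases main q r hq hr hqr hpq.symm hpr.symm hqG hrG hall with h | h | h
      · exact Or.inr (Or.inl h)
      · exact Or.inl h.symm
      · exact Or.inr (Or.inr h.symm)
    · rcases main p r hp hr hpr hpq hqr.symm hpG hrG
        (fun s hs hsG => by rcases hall s hs hsG with h | h | h <;> simp [h]) with h | h | h
      · exact Or.inr (Or.inr h)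
      · exact Or.inl h
      · exact Or.inr (Or.inl h.symm)
    · rcases main p q hp hq hpq hpr hqr hpG hqG
        (fun s hs hsG => by rcases hall s hs hsG with h | h | h <;> simp [h]) with h | h | h
      · exact Or.inl h
      · exact Or.inr (Or.inr h)
      · exact Or.inr (Or.inl h)

/-- **Lucido's three primes lemma.** -/
theorem three_primes {G : Type*} [Group G] [Finite G] [Group.IsSolvable G] {p q r : ℕ} (hp : p.Prime) (hq : q.Prime)
    (hr : r.Prime) (hpq : p ≠ q) (hqr : q ≠ r) (hpr : p ≠ r) (hpG : p ∣ Nat.card G) (hqG : q ∣ Nat.card G)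
    (hrG : r ∣ Nat.card G) : Adj G p q ∨ Adj G q r ∨ Adj G p r := by
  obtain ⟨K, h1, h2, -⟩ := OddOrderLocal.HallPi.exists_hall_ge_top (G := G) {s | s = p ∨ s = q ∨ s = r} (X := ⊥)
    (fun s hs hs1 => by rw [Subgroup.card_bot] at hs1; exact absurd (Nat.dvd_one.1 hs1) hs.one_lt.ne')
  have hd : ∀ s : ℕ, s.Prime → s ∣ Nat.card G → (s = p ∨ s = q ∨ s = r) → s ∣ Nat.card K := by
    intro s hs hsG hs'
    rw [← Subgroup.card_mul_index K] at hsG
    rcases hs.dvd_mul.1 hsG with h | h
    · exact h
    · exact absurd h (h2 s hs hs')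
  have h3 := aux _ (G := K) rfl hp hq hr hpq hqr hpr (hd p hp hpG (Or.inl rfl)) (hd q hq hqG (Or.inr (Or.inl rfl)))
    (hd r hr hrG (Or.inr (Or.inr rfl))) (fun s hs hsK => h1 s hs hsK)
  rcases h3 with h | h | h
  · exact Or.inl (Adj.of_subgroup h)
  · exact Or.inr (Or.inl (Adj.of_subgroup h))
  · exact Or.inr (Or.inr (Adj.of_subgroup h))

end Cfsg.Agent.H457.ThreePrimes
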